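import Mathlib
import Groth.Agent.SpecFerrand.Basic

/-!
`A ×_B B[Y]` (for a localisation `A → B` away from `s`) is the colimit of `A[Y]` along `Y ↦ sY`,
so a map from its spectrum to a scheme locally of finite presentation comes from a finite stage.
-/

set_option autoImplicit false

universe u

open CategoryTheory CategoryTheory.Limits AlgebraicGeometry Opposite Polynomial
open Groth.SpecFerrand (Sp Sp_comp Sq)

noncomputable section

namespace Groth.LoopPatch

/-- `Y ↦ cY`. -/
def scale {A : Type u} [CommRing A] (c : A) : A[X] →+* A[X] := eval₂RingHom C (C c * X)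

theorem scale_apply {A : Type u} [CommRing A] (c : A) (f : A[X]) : scale c f = f.comp (C c * X) := rfl

theorem coeff_scale {A : Type u} [CommRing A] (c : A) (f : A[X]) (i : ℕ) :
    (scale c f).coeff i = f.coeff i * c ^ i := comp_C_mul_X_coeff

theorem scale_scale {A : Type u} [CommRing A] (c d : A) (f : A[X]) :
    scale c (scale d f) = scale (c * d) f := by
  ext i
  simp only [coeff_scale, mul_pow]
  ring

theorem scale_one {A : Type u} [CommRing A] (f : A[X]) : scale (1 : A) f = f := by
  ext i
  simp [coeff_scale]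

theorem scale_C {A : Type u} [CommRing A] (c a : A) : scale c (C a) = C a := eval₂_C _ _

theorem scale_X {A : Type u} [CommRing A] (c : A) : scale c (X : A[X]) = C c * X := eval₂_X _ _

variable {A B : Type u} [CommRing A] [CommRing B] [Algebra A B] (s : A) [IsLocalization.Away s B]

variable (A B) in
/-- `A ×_B B[Y]`. -/
abbrev glueRing : Subring (A × B[X]) :=
  RingHom.eqLocus ((algebraMap A B).comp (RingHom.fst A B[X]))
    ((evalRingHom (0 : B)).comp (RingHom.snd A B[X]))

variable (B) in
/-- The inverse of `s`. -/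
def invS : B := ((IsLocalization.Away.algebraMap_isUnit (S := B) s).unit⁻¹ : Bˣ)

variable (B) in
theorem invS_mul : invS B s * algebraMap A B s = 1 :=
  (IsLocalization.Away.algebraMap_isUnit (S := B) s).val_inv_mul

variable (B) in
/-- The map from the `N`-th stage. -/
def stage (N : ℕ) : A[X] →+* glueRing A B :=
  ((evalRingHom (0 : A)).prod ((scale (invS B s ^ N)).comp (mapRingHom (algebraMap A B)))).codRestrict
    (glueRing A B) fun f => by
      show algebraMap A B (f.eval 0) = (scale (invS B s ^ N) (f.map (algebraMap A B))).eval 0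
      rw [← coeff_zero_eq_eval_zero, ← coeff_zero_eq_eval_zero, coeff_scale, coeff_map, pow_zero,
        mul_one]

theorem stage_fst (N : ℕ) (f : A[X]) : ((stage B s N f : A × B[X])).1 = f.eval 0 := rfl

theorem stage_snd (N : ℕ) (f : A[X]) :
    ((stage B s N f : A × B[X])).2 = scale (invS B s ^ N) (f.map (algebraMap A B)) := rfl

theorem stage_scale (N d : ℕ) (f : A[X]) : stage B s (N + d) (scale (s ^ d) f) = stage B s N f := by
  refine Subtype.ext (Prod.ext ?_ ?_)
  · rw [stage_fst, stage_fst, ← coeff_zero_eq_eval_zero, ← coeff_zero_eq_eval_zero, coeff_scale,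
      pow_zero, mul_one]
  · rw [stage_snd, stage_snd]
    ext i
    simp only [coeff_scale, coeff_map, map_mul, map_pow]
    have h := congrArg (fun z : B => z ^ (d * i)) (invS_mul B s)
    simp only [mul_pow, one_pow] at h
    rw [← pow_mul, ← pow_mul, ← pow_mul] at *
    rw [Nat.add_mul, pow_add]
    linear_combination (algebraMap A B (f.coeff i) * invS B s ^ (N * i)) * h

theorem exists_stage (x : glueRing A B) : ∃ N f, stage B s N f = x := by
  obtain ⟨⟨a, p⟩, hx⟩ := x
  have hx' : algebraMap A B a = p.eval 0 := hx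
  choose n b hb using fun i => IsLocalization.Away.surj (S := B) s (p.coeff i)
  let N := p.support.sup n
  refine ⟨N, C a + ∑ i ∈ p.support.erase 0, monomial i (b i * s ^ (N * i - n i)), ?_⟩
  have hc : ∀ i, (C a + ∑ j ∈ p.support.erase 0, monomial j (b j * s ^ (N * j - n j))).coeff i =
      if i = 0 then a else if i ∈ p.support then b i * s ^ (N * i - n i) else 0 := by
    intro i
    simp only [coeff_add, finsetSum_coeff, coeff_monomial, coeff_C, Finset.sum_ite_eq',
      Finset.mem_erase, ne_eq]
    by_cases hi : i = 0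
    · simp [hi]
    · by_cases hs : i ∈ p.support <;> simp [hi, hs]
  refine Subtype.ext (Prod.ext ?_ ?_)
  · rw [stage_fst, ← coeff_zero_eq_eval_zero, hc, if_pos rfl]
  · rw [stage_snd]
    ext i
    simp only [coeff_scale, coeff_map, hc]
    by_cases hi : i = 0
    · subst hi
      rw [if_pos rfl, pow_zero, mul_one, hx', ← coeff_zero_eq_eval_zero]
    rw [if_neg hi]
    by_cases hs : i ∈ p.support
    · rw [if_pos hs, map_mul, map_pow, ← hb i, mul_assoc, mul_assoc, ← mul_assoc (algebraMap A B s ^ n i),
        ← pow_add, Nat.add_sub_cancel' ((Finset.le_sup hs).trans (Nat.le_mul_of_pos_right N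
          (Nat.pos_of_ne_zero hi))), ← pow_mul, ← mul_pow, mul_comm (algebraMap A B s), invS_mul,
        one_pow, mul_one]
    · rw [if_neg hs, map_zero, zero_mul, Polynomial.notMem_support_iff.mp hs]

theorem exists_scale_eq_zero (N : ℕ) (f : A[X]) (h : stage B s N f = 0) :
    ∃ M, scale (s ^ M) f = 0 := by
  have h1 : f.coeff 0 = 0 := by
    rw [coeff_zero_eq_eval_zero]; exact congrArg (fun z : glueRing A B => (z : A × B[X]).1) h
  have h2 : ∀ i, ∃ m, s ^ m * f.coeff i = 0 := fun i => by
    have hu : IsUnit ((invS B s ^ N) ^ i) :=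
      ((IsUnit.of_mul_eq_one _ (invS_mul B s)).pow N).pow i
    have := congrArg (fun z : glueRing A B => (z : A × B[X]).2.coeff i) h
    simp only [stage_snd, coeff_scale, coeff_map] at this
    rw [show ((0 : glueRing A B) : A × B[X]).2.coeff i = 0 from rfl, hu.mul_left_eq_zero] at this
    obtain ⟨⟨_, m, rfl⟩, hm⟩ := (IsLocalization.map_eq_zero_iff (Submonoid.powers s) B _).mp this
    exact ⟨m, hm⟩
  choose m hm using h2
  refine ⟨f.support.sup m, Polynomial.ext fun i => ?_⟩
  rw [coeff_scale, coeff_zero]
  by_cases hi : i = 0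
  · rw [hi, h1, zero_mul]
  by_cases hs : i ∈ f.support
  · obtain ⟨k, hk⟩ := Nat.exists_eq_add_of_le
      ((Finset.le_sup (f := m) hs).trans (Nat.le_mul_of_pos_right _ (Nat.pos_of_ne_zero hi)))
    rw [← pow_mul, hk, pow_add, ← mul_assoc, mul_comm (f.coeff i), hm i, zero_mul]
  · rw [Polynomial.notMem_support_iff.mp hs, zero_mul]

theorem exists_eq_of_stage_eq (i j : ℕ) (x y : A[X]) (h : stage B s i x = stage B s j y) :
    ∃ k, i ≤ k ∧ j ≤ k ∧ scale (s ^ (k - i)) x = scale (s ^ (k - j)) y := by
  obtain ⟨M, hM⟩ := exists_scale_eq_zero (B := B) s (max i j)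
    (scale (s ^ (max i j - i)) x - scale (s ^ (max i j - j)) y) (by
      have e1 := stage_scale (B := B) s i (max i j - i) x
      have e2 := stage_scale (B := B) s j (max i j - j) y
      rw [Nat.add_sub_cancel' (le_max_left i j)] at e1
      rw [Nat.add_sub_cancel' (le_max_right i j)] at e2
      rw [map_sub, e1, e2, h, sub_self])
  rw [map_sub, scale_scale, scale_scale, ← pow_add, ← pow_add, sub_eq_zero] at hM
  refine ⟨max i j + M, (le_max_left i j).trans (Nat.le_add_right _ _),
    (le_max_right i j).trans (Nat.le_add_right _ _), ?_⟩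
  have := le_max_left i j
  have := le_max_right i j
  convert hM using 3 <;> congr 1 <;> omega

/-- The transition system `A[Y] → A[Y]`, `Y ↦ sY`. -/
def stageFunctor : ULift.{u} ℕ ⥤ CommRingCat.{u} where
  obj _ := CommRingCat.of A[X]
  map {i j} _ := CommRingCat.ofHom (scale (s ^ (j.down - i.down)))
  map_id i := by
    apply CommRingCat.hom_ext
    refine RingHom.ext fun f => ?_
    show scale (s ^ (i.down - i.down)) f = f
    rw [Nat.sub_self, pow_zero, scale_one]
  map_comp {i j k} f g := by
    have hij : i.down ≤ j.down := (leOfHom f : i ≤ j)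
    have hjk : j.down ≤ k.down := (leOfHom g : j ≤ k)
    apply CommRingCat.hom_ext
    refine RingHom.ext fun x => ?_
    show scale (s ^ (k.down - i.down)) x =
      scale (s ^ (k.down - j.down)) (scale (s ^ (j.down - i.down)) x)
    rw [scale_scale, ← pow_add]
    congr 3
    omega

variable (B) in
/-- The cocone on the stages. -/
def stageCocone : Cocone (stageFunctor s) where
  pt := CommRingCat.of (glueRing A B)
  ι :=
    { app := fun i => CommRingCat.ofHom (stage B s i.down)
      naturality := fun i j f => by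
        apply CommRingCat.hom_ext
        refine RingHom.ext fun x => ?_
        show stage B s j.down (scale (s ^ (j.down - i.down)) x) = stage B s i.down x
        conv_lhs => rw [← Nat.add_sub_cancel' (show i.down ≤ j.down from (leOfHom f : i ≤ j))]
        rw [Nat.add_sub_cancel_left, stage_scale] }

variable (B) in
/-- `A ×_B B[Y]` is the colimit of the stages. -/
def stageCoconeIsColimit : IsColimit (stageCocone B s) := by
  haveI : IsFiltered (ULift.{u} ℕ) := inferInstance
  haveI : ReflectsColimit (stageFunctor (A := A) s) (CategoryTheory.forget CommRingCat.{u}) :=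
    reflectsColimit_of_reflectsIsomorphisms _ _
  apply isColimitOfReflects (CategoryTheory.forget CommRingCat)
  refine Types.FilteredColimit.isColimitOf _ _ (fun x => ?_) (fun i j x y h => ?_)
  · obtain ⟨N, f, hf⟩ := exists_stage (B := B) s x
    exact ⟨⟨N⟩, f, hf.symm⟩
  · obtain ⟨k, hik, hjk, hk⟩ := exists_eq_of_stage_eq (B := B) s i.down j.down x y h
    exact ⟨⟨k⟩, homOfLE hik, homOfLE hjk, hk⟩

theorem exists_stage_factor {R : Type u} [CommRing R] [Algebra R A] {X' : Scheme.{u}}
    (f : X' ⟶ Spec (CommRingCat.of R)) [LocallyOfFinitePresentation f]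
    (a : Spec (CommRingCat.of (glueRing A B)) ⟶ X')
    (ha : ∀ N, Sp (stage B s N) ≫ Sp (algebraMap R A[X]) = a ≫ f) :
    ∃ (N : ℕ) (g : Spec (CommRingCat.of A[X]) ⟶ X'),
      Sp (stage B s N) ≫ g = a ∧ g ≫ f = Sp (algebraMap R A[X]) := by
  let D : (ULift.{u} ℕ)ᵒᵖ ⥤ Scheme.{u} := (stageFunctor (A := A) s).op ⋙ Scheme.Spec
  let t : D ⟶ (Functor.const _).obj (Spec (CommRingCat.of R)) :=
    { app := fun _ => Sp (algebraMap R A[X])
      naturality := fun i j φ => by
        show Sp (scale (s ^ (i.unop.down - j.unop.down))) ≫ Sp (algebraMap R A[X]) =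
          Sp (algebraMap R A[X]) ≫ 𝟙 _
        rw [Sp_comp, Category.comp_id]
        congr 1
        ext x : 1
        exact scale_C _ _ }
  haveI : ∀ {i j} (φ : i ⟶ j), IsAffineHom (D.map φ) := fun {i j} φ =>
    inferInstanceAs (IsAffineHom (Spec.map ((stageFunctor (A := A) s).map φ.unop)))
  haveI : ∀ i, CompactSpace (D.obj i) := fun i =>
    inferInstanceAs (CompactSpace (Spec (CommRingCat.of A[X])))
  haveI : ∀ i, QuasiSeparatedSpace (D.obj i) := fun i =>
    inferInstanceAs (QuasiSeparatedSpace (Spec (CommRingCat.of A[X])))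
  obtain ⟨i, g, hg, hg'⟩ := Scheme.exists_π_app_comp_eq_of_locallyOfFinitePresentation D t f
    (Scheme.Spec.mapCone (stageCocone B s).op)
    (isLimitOfPreserves Scheme.Spec (stageCoconeIsColimit B s).op) a
    (by ext i; exact ha i.unop.down)
  exact ⟨i.unop.down, g, hg, hg'⟩

end Groth.LoopPatch
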