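import Mathlib
import Groth.Agent.LoopPatch.Colim

/-!
`G₀(B) = G₀(A)·G₀(A')`: a pointed `B[Y]`-point of a group scheme locally of finite presentation
becomes, after a rescaling of `Y`, a pointed `A[Y]`-point.
-/

set_option autoImplicit false

universe u

open CategoryTheory CategoryTheory.Limits MonoidalCategory CartesianMonoidalCategory MonObj
open AlgebraicGeometry Opposite Polynomial
open Groth.SpecFerrand (Sp Sp_comp Sq)

noncomputable section

namespace Groth.LoopPatch

variable {R : Type u} [CommRing R]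

variable (R) in
/-- `Spec C` over `Spec R`. -/
abbrev pt (C : Type u) [CommRing C] [Algebra R C] : Over (Spec (CommRingCat.of R)) :=
  Over.mk (Spec.map (CommRingCat.ofHom (algebraMap R C)))

/-- The map of points induced by an algebra map. -/
def ptMap {C D : Type u} [CommRing C] [CommRing D] [Algebra R C] [Algebra R D] (φ : C →ₐ[R] D) :
    pt R D ⟶ pt R C :=
  Over.homMk (Sp φ.toRingHom) (by
    show Sp φ.toRingHom ≫ Sp (algebraMap R C) = Sp (algebraMap R D)
    rw [Sp_comp]
    exact congrArg Sp φ.comp_algebraMap)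

theorem ptMap_comp {C D E : Type u} [CommRing C] [CommRing D] [CommRing E] [Algebra R C] [Algebra R D]
    [Algebra R E] (φ : C →ₐ[R] D) (ψ : D →ₐ[R] E) :
    ptMap ψ ≫ ptMap φ = ptMap (ψ.comp φ) :=
  Over.OverMorphism.ext (Sp_comp ψ.toRingHom φ.toRingHom)

theorem ptMap_comp_assoc {C D E : Type u} [CommRing C] [CommRing D] [CommRing E] [Algebra R C]
    [Algebra R D] [Algebra R E] (φ : C →ₐ[R] D) (ψ : D →ₐ[R] E) {Z : Over (Spec (CommRingCat.of R))}
    (h : pt R C ⟶ Z) : ptMap ψ ≫ ptMap φ ≫ h = ptMap (ψ.comp φ) ≫ h := by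
  rw [← Category.assoc, ptMap_comp]

theorem ptMap_id {C : Type u} [CommRing C] [Algebra R C] : ptMap (AlgHom.id R C) = 𝟙 (pt R C) :=
  Over.OverMorphism.ext (Spec.map_id _)

variable (R) in
/-- `Y ↦ 0`. -/
def ev0 (C : Type u) [CommRing C] [Algebra R C] : C[X] →ₐ[R] C :=
  { evalRingHom (0 : C) with
    commutes' := fun r => eval_C }

variable (R) in
/-- `Y ↦ cY`. -/
def scl {C : Type u} [CommRing C] [Algebra R C] (c : C) : C[X] →ₐ[R] C[X] :=
  { scale c with
    commutes' := fun r => scale_C c _ }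

variable (R) in
/-- The map on polynomial rings. -/
def mp (A B : Type u) [CommRing A] [CommRing B] [Algebra R A] [Algebra R B] [Algebra A B]
    [IsScalarTower R A B] : A[X] →ₐ[R] B[X] :=
  mapAlgHom (IsScalarTower.toAlgHom R A B)

/-- Maps out of a polynomial ring agree if they agree on constants and the variable. -/
theorem algHom_ext_C_X {A C : Type u} [CommRing A] [CommRing C] [Algebra R A] [Algebra R C]
    {f g : A[X] →ₐ[R] C} (hC : ∀ a, f (Polynomial.C a) = g (Polynomial.C a)) (hX : f X = g X) : f = g :=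
  AlgHom.coe_ringHom_injective (Polynomial.ringHom_ext hC hX)

variable {G : Over (Spec (CommRingCat.of R))} [GrpObj G] [LocallyOfFinitePresentation G.hom]

theorem exists_lift {A B : Type u} [CommRing A] [CommRing B] [Algebra R A] [Algebra R B] [Algebra A B]
    [IsScalarTower R A B] (s : A) [IsLocalization.Away s B] (h : pt R B[X] ⟶ G)
    (h0 : ptMap (ev0 R B) ≫ h = 1) :
    ∃ (N : ℕ) (g : pt R A[X] ⟶ G), ptMap (ev0 R A) ≫ g = 1 ∧
      ptMap (mp R A B) ≫ g = ptMap (scl R (algebraMap A B s ^ N)) ≫ h := by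
  let P := glueRing A B
  let p1 : P →+* A := (RingHom.fst A B[X]).comp P.subtype
  let p2 : P →+* B[X] := (RingHom.snd A B[X]).comp P.subtype
  have hsq : Sq p1 p2 (algebraMap A B) (evalRingHom (0 : B)) :=
    { comm := RingHom.ext fun x => x.2
      surj := fun b => ⟨Polynomial.C b, eval_C⟩
      exu := fun a f hf => ⟨⟨(a, f), hf⟩, ⟨rfl, rfl⟩, fun y hy =>
        Subtype.ext (Prod.ext hy.1 hy.2)⟩ }
  have huv : Sp (algebraMap A B) ≫ (1 : pt R A ⟶ G).left = Sp (evalRingHom (0 : B)) ≫ h.left := by
    have e : ptMap (IsScalarTower.toAlgHom R A B) ≫ (1 : pt R A ⟶ G) = 1 := MonObj.comp_one _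
    rw [← h0] at e
    exact congrArg CommaMorphism.left e
  obtain ⟨a, ha1, ha2⟩ := Groth.SpecFerrand.exists_desc hsq _ _ huv
  have ha : ∀ N, Sp (stage B s N) ≫ Sp (algebraMap R A[X]) = a ≫ G.hom := by
    intro N
    refine Groth.SpecFerrand.hom_ext hsq ?_ ?_
    · rw [← Category.assoc (Sp p1) a, ha1, Over.w (1 : pt R A ⟶ G), Sp_comp, Sp_comp]
      show Sp _ = Sp (algebraMap R A)
      refine congrArg Sp (RingHom.ext fun r => ?_)
      exact (stage_fst (B := B) s N _).trans eval_C
    · rw [← Category.assoc (Sp p2) a, ha2, Over.w h, Sp_comp, Sp_comp]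
      show Sp _ = Sp (algebraMap R B[X])
      refine congrArg Sp (RingHom.ext fun r => ?_)
      refine (stage_snd s N _).trans ?_
      simp only [Polynomial.algebraMap_apply, Polynomial.map_C, scale_C,
        ← IsScalarTower.algebraMap_apply]
  obtain ⟨N, g, hg, hg'⟩ := exists_stage_factor s G.hom a ha
  refine ⟨N, Over.homMk g hg', Over.OverMorphism.ext ?_, Over.OverMorphism.ext ?_⟩
  · show Sp (evalRingHom (0 : A)) ≫ g = (1 : pt R A ⟶ G).left
    rw [← ha1, ← hg, ← Category.assoc, Sp_comp]
    exact congrArg (fun φ => Sp φ ≫ g) (RingHom.ext fun f => (stage_fst (B := B) s N f).symm)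
  · show Sp (mp R A B).toRingHom ≫ g = Sp (scale (algebraMap A B s ^ N)) ≫ h.left
    rw [← ha2, ← hg, ← Category.assoc, ← Category.assoc, Sp_comp, Sp_comp]
    refine congrArg (fun φ => Sp φ ≫ g) (RingHom.ext fun f => ?_)
    show f.map (algebraMap A B) = scale (algebraMap A B s ^ N) ((stage B s N f : A × B[X]).2)
    rw [stage_snd, scale_scale, ← mul_pow, mul_comm, invS_mul, one_pow, scale_one]

theorem away_left {r r' : R} (A' B : Type u) [CommRing A'] [CommRing B] [Algebra R A'] [Algebra R B]
    [Algebra A' B] [IsScalarTower R A' B] [IsLocalization.Away r' A'] [IsLocalization.Away (r * r') B] :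
    IsLocalization.Away (algebraMap R A' r) B := by
  let T := Localization.Away (algebraMap R A' r)
  haveI : IsLocalization.Away (r * r') T := IsLocalization.Away.mul A' T r' r
  let e : T ≃ₐ[R] B := IsLocalization.algEquiv (Submonoid.powers (r * r')) T B
  have he : (e : T →+* B).comp (algebraMap A' T) = algebraMap A' B :=
    IsLocalization.ringHom_ext (Submonoid.powers r') (RingHom.ext fun x => by
      simp only [RingHom.comp_apply, ← IsScalarTower.algebraMap_apply]
      exact e.commutes x)
  let e' : T ≃ₐ[A'] B := AlgEquiv.ofRingEquiv (f := e.toRingEquiv) fun x => RingHom.congr_fun he x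
  exact IsLocalization.isLocalization_of_algEquiv _ e'

attribute [local instance] Polynomial.algebra

theorem points_eq_mul {r r' : R} (hrr : Ideal.span ({r, r'} : Set R) = ⊤) {A A' B : Type u}
    [CommRing A] [CommRing A'] [CommRing B] [Algebra R A] [Algebra R A'] [Algebra R B]
    [IsLocalization.Away r A] [IsLocalization.Away r' A'] [IsLocalization.Away (r * r') B]
    [Algebra A B] [Algebra A' B] [IsScalarTower R A B] [IsScalarTower R A' B]
    (g : pt R B[X] ⟶ G) (hg : ptMap (ev0 R B) ≫ g = 1) :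
    ∃ (g₁ : pt R A[X] ⟶ G) (g₂ : pt R A'[X] ⟶ G), ptMap (ev0 R A) ≫ g₁ = 1 ∧
      ptMap (ev0 R A') ≫ g₂ = 1 ∧ g = (ptMap (mp R A B) ≫ g₁) * (ptMap (mp R A' B) ≫ g₂) := by
  haveI := away_left (r := r) (r' := r') A' B
  haveI : IsLocalization.Away (r' * r) B := by rw [mul_comm]; infer_instance
  haveI := away_left (r := r') (r' := r) A B
  obtain ⟨N₂, k₂, hk₂0, hk₂⟩ := exists_lift (algebraMap R A' r) g hg
  simp only [← IsScalarTower.algebraMap_apply] at hk₂
  let φ₁ : B[X] →ₐ[R] B[X][X] :=
    (aeval (Polynomial.C X + X : B[X][X])).restrictScalars R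
  let φ₀ : B[X] →ₐ[R] B[X][X] := (aeval (Polynomial.C X : B[X][X])).restrictScalars R
  let h : pt R B[X][X] ⟶ G := (ptMap φ₁ ≫ g) * (ptMap φ₀ ≫ g)⁻¹
  have h0 : ptMap (ev0 R B[X]) ≫ h = 1 := by
    rw [MonObj.comp_mul, GrpObj.comp_inv, ptMap_comp_assoc, ptMap_comp_assoc]
    have e : (ev0 R B[X]).comp φ₁ = (ev0 R B[X]).comp φ₀ :=
      algHom_ext_C_X (fun b => by simp [φ₁, φ₀, ev0]) (by simp [φ₁, φ₀, ev0])
    rw [e, mul_inv_cancel]
  haveI : IsScalarTower R A[X] B[X] := IsScalarTower.of_algebraMap_eq fun x => by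
    show Polynomial.C (algebraMap R B x) = Polynomial.map (algebraMap A B) (Polynomial.C (algebraMap R A x))
    rw [Polynomial.map_C, ← IsScalarTower.algebraMap_apply]
  haveI : IsLocalization.Away (Polynomial.C (algebraMap R A r') : A[X]) B[X] := by
    have := Polynomial.isLocalization (Submonoid.powers (algebraMap R A r')) B
    rwa [Submonoid.map_powers] at this
  obtain ⟨N₁, k₁, hk₁0, hk₁⟩ :=
    exists_lift (A := A[X]) (B := B[X]) (Polynomial.C (algebraMap R A r')) h h0
  obtain ⟨a, c, hac⟩ : ∃ a c : R, a * r ^ N₂ + c * r' ^ N₁ = 1 := by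
    obtain ⟨x, y, hxy⟩ := Ideal.mem_span_pair.mp (hrr ▸ Submodule.mem_top : (1 : R) ∈ _)
    exact IsCoprime.pow (m := N₂) (n := N₁) ⟨x, y, hxy⟩
  let lA : A := algebraMap R A (a * r ^ N₂)
  let lB : B := algebraMap R B (a * r ^ N₂)
  let ψ : A[X][X] →ₐ[R] A[X] :=
    { eval₂RingHom (eval₂RingHom Polynomial.C (Polynomial.C lA * X))
        (Polynomial.C (algebraMap R A c) * X) with
      commutes' := fun x => by simp [Polynomial.algebraMap_apply] }
  let ψB : B[X][X] →ₐ[R] B[X] :=
    { eval₂RingHom (eval₂RingHom Polynomial.C (Polynomial.C lB * X))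
        (Polynomial.C (algebraMap R B c) * X) with
      commutes' := fun x => by simp [Polynomial.algebraMap_apply] }
  refine ⟨ptMap ψ ≫ k₁, ptMap (scl R (algebraMap R A' a)) ≫ k₂, ?_, ?_, ?_⟩
  · have e : (ev0 R A).comp ψ = (ev0 R A).comp (ev0 R A[X]) :=
      algHom_ext_C_X (fun f => by
        simp [ψ, ev0, ← coeff_zero_eq_eval_zero]
        exact (coeff_scale lA f 0).trans (by simp)) (by simp [ψ, ev0])
    rw [ptMap_comp_assoc, e, ← ptMap_comp_assoc, hk₁0, MonObj.comp_one]
  · have e : (ev0 R A').comp (scl R (algebraMap R A' a)) = ev0 R A' :=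
      algHom_ext_C_X (fun b => by simp [ev0, scl, scale_C]) (by simp [ev0, scl, scale_X])
    rw [ptMap_comp_assoc, e, hk₂0]
  · have e1 : (mp R A B).comp ψ = ψB.comp (mp R A[X] B[X]) :=
      algHom_ext_C_X (fun f => by
        have : (Polynomial.mapRingHom (algebraMap A B)).comp
            (eval₂RingHom Polynomial.C (Polynomial.C lA * X)) =
            (eval₂RingHom Polynomial.C (Polynomial.C lB * X)).comp
              (Polynomial.mapRingHom (algebraMap A B)) :=
          Polynomial.ringHom_ext (fun b => by simp) (by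
            simp [lA, lB, ← IsScalarTower.algebraMap_apply])
        simpa [ψ, ψB, mp, Polynomial.algebraMap_def] using RingHom.congr_fun this f)
        (by simp [ψ, ψB, mp, ← IsScalarTower.algebraMap_apply])
    have e2 : (mp R A' B).comp (scl R (algebraMap R A' a)) =
        (scl R (algebraMap R B a)).comp (mp R A' B) :=
      algHom_ext_C_X (fun b => by simp [mp, scl, scale_C]) (by
        simp [mp, scl, scale_X, ← IsScalarTower.algebraMap_apply])
    have hb : algebraMap A[X] B[X] (Polynomial.C (algebraMap R A r')) =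
        Polynomial.C (algebraMap R B r') := by
      show Polynomial.map (algebraMap A B) _ = _
      rw [Polynomial.map_C, ← IsScalarTower.algebraMap_apply]
    rw [hb] at hk₁
    have e3 : ((ψB.comp (scl R (Polynomial.C (algebraMap R B r') ^ N₁))).comp φ₁) = AlgHom.id R B[X] :=
      algHom_ext_C_X (fun b => by simp [ψB, scl, φ₁, scale_C, Polynomial.algebraMap_apply]) (by
        simp only [ψB, scl, φ₁, lB, AlgHom.comp_apply, AlgHom.coe_restrictScalars', aeval_X,
          AlgHom.coe_mk, map_add, scale_C, scale_X, map_mul, map_pow, coe_eval₂RingHom, eval₂_C,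
          eval₂_X, eval₂_mul, eval₂_pow, eval₂_add, AlgHom.coe_id, id_eq]
        have e := congrArg (fun x => (Polynomial.C (algebraMap R B x) : B[X])) hac
        simp only [map_add, map_mul, map_pow, map_one] at e
        linear_combination (X : B[X]) * e)
    have e4 : ((ψB.comp (scl R (Polynomial.C (algebraMap R B r') ^ N₁))).comp φ₀) = scl R lB :=
      algHom_ext_C_X (fun b => by simp [ψB, scl, φ₀, scale_C, Polynomial.algebraMap_apply])
        (by simp [ψB, scl, φ₀, scale_C, scale_X])
    have e5 : (scl R (algebraMap R B a)).comp (scl R (algebraMap R B r ^ N₂)) = scl R lB :=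
      algHom_ext_C_X (fun b => by simp [scl, scale_C]) (by
        simp [scl, scale_X, scale_C, lB]; ring)
    rw [ptMap_comp_assoc, e1, ← ptMap_comp_assoc, hk₁, ptMap_comp_assoc, MonObj.comp_mul,
      GrpObj.comp_inv, ptMap_comp_assoc, ptMap_comp_assoc, e3, e4, ptMap_id, Category.id_comp,
      ptMap_comp_assoc, e2, ← ptMap_comp_assoc, hk₂, ptMap_comp_assoc, e5, inv_mul_cancel_right]

end Groth.LoopPatch
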