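import Mathlib
import Groth.Agent.LoopPatch.Lift

/-!
`G₀(B) = G₀(A)·G₀(A')` for group functors in which rescaled points lift, and such functors:
points on a base change, equalisers.
-/

set_option autoImplicit false

universe u

open CategoryTheory CategoryTheory.Limits MonoidalCategory CartesianMonoidalCategory MonObj
open AlgebraicGeometry Opposite Polynomial
open Groth.SpecFerrand (Sp Sp_comp Sq)

noncomputable section

namespace Groth.LoopPatch

/-- A functor in groups on algebras in which rescaled pointed points lift along localisations. -/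
structure PtFun (R : Type u) [CommRing R] where
  /-- the values -/
  obj : ∀ (C : Type u) [CommRing C] [Algebra R C], GrpCat.{u}
  /-- functoriality -/
  map : ∀ {C D : Type u} [CommRing C] [CommRing D] [Algebra R C] [Algebra R D],
    (C →ₐ[R] D) → obj C →* obj D
  map_id : ∀ {C : Type u} [CommRing C] [Algebra R C] (x : obj C), map (AlgHom.id R C) x = x
  map_comp : ∀ {C D E : Type u} [CommRing C] [CommRing D] [CommRing E] [Algebra R C] [Algebra R D]
    [Algebra R E] (φ : C →ₐ[R] D) (ψ : D →ₐ[R] E) (x : obj C), map ψ (map φ x) = map (ψ.comp φ) x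
  lift : ∀ (A B : Type u) [CommRing A] [CommRing B] [Algebra R A] [Algebra R B] [Algebra A B]
    [IsScalarTower R A B] (s : A) [IsLocalization.Away s B] (h : obj B[X]), map (ev0 R B) h = 1 →
    ∃ (N : ℕ) (g : obj A[X]), map (ev0 R A) g = 1 ∧
      map (mp R A B) g = map (scl R (algebraMap A B s ^ N)) h

variable {R : Type u} [CommRing R]

@[simp]
theorem ev0_X (C : Type u) [CommRing C] [Algebra R C] : ev0 R C X = 0 := eval_X

@[simp]
theorem ev0_C (C : Type u) [CommRing C] [Algebra R C] (c : C) : ev0 R C (Polynomial.C c) = c := eval_C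

theorem ev0_apply (C : Type u) [CommRing C] [Algebra R C] (f : C[X]) : ev0 R C f = f.coeff 0 :=
  (coeff_zero_eq_eval_zero f).symm

namespace PtFun

attribute [local instance] Polynomial.algebra

theorem points_eq_mul (F : PtFun R) {C₀ : Type u} [CommRing C₀] [Algebra R C₀] {r r' : R} (hrr : Ideal.span ({algebraMap R C₀ r, algebraMap R C₀ r'} : Set C₀) = ⊤) {A A' B : Type u}
    [CommRing A] [CommRing A'] [CommRing B] [Algebra R A] [Algebra R A'] [Algebra R B]
    [Algebra C₀ A] [Algebra C₀ A'] [Algebra C₀ B] [IsScalarTower R C₀ A] [IsScalarTower R C₀ A']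
    [IsScalarTower R C₀ B]
    [IsLocalization.Away (algebraMap R C₀ r) A] [IsLocalization.Away (algebraMap R C₀ r') A']
    [IsLocalization.Away (algebraMap R C₀ r * algebraMap R C₀ r') B]
    [Algebra A B] [Algebra A' B] [IsScalarTower R A B] [IsScalarTower R A' B]
    [IsScalarTower C₀ A B] [IsScalarTower C₀ A' B]
    (g : F.obj B[X]) (hg : F.map (ev0 R B) g = 1) :
    ∃ (g₁ : F.obj A[X]) (g₂ : F.obj A'[X]), F.map (ev0 R A) g₁ = 1 ∧
      F.map (ev0 R A') g₂ = 1 ∧ g = F.map (mp R A B) g₁ * F.map (mp R A' B) g₂ := by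
  haveI : IsLocalization.Away (algebraMap R A' r) B := by
    rw [IsScalarTower.algebraMap_apply R C₀ A']
    exact away_left (R := C₀) (r := algebraMap R C₀ r) (r' := algebraMap R C₀ r') A' B
  haveI : IsLocalization.Away (algebraMap R C₀ r' * algebraMap R C₀ r) B := by rw [mul_comm]; infer_instance
  haveI : IsLocalization.Away (algebraMap R A r') B := by
    rw [IsScalarTower.algebraMap_apply R C₀ A]
    exact away_left (R := C₀) (r := algebraMap R C₀ r') (r' := algebraMap R C₀ r) A B
  obtain ⟨N₂, k₂, hk₂0, hk₂⟩ := F.lift A' B (algebraMap R A' r) g hg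
  simp only [← IsScalarTower.algebraMap_apply] at hk₂
  let φ₁ : B[X] →ₐ[R] B[X][X] :=
    (aeval (Polynomial.C X + X : B[X][X])).restrictScalars R
  let φ₀ : B[X] →ₐ[R] B[X][X] := (aeval (Polynomial.C X : B[X][X])).restrictScalars R
  let h : F.obj B[X][X] := F.map φ₁ g * (F.map φ₀ g)⁻¹
  have h0 : F.map (ev0 R B[X]) h = 1 := by
    rw [map_mul, map_inv, F.map_comp, F.map_comp]
    have e : (ev0 R B[X]).comp φ₁ = (ev0 R B[X]).comp φ₀ :=
      algHom_ext_C_X (fun b => by simp [φ₁, φ₀]) (by simp [φ₁, φ₀])
    rw [e, mul_inv_cancel]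
  haveI : IsScalarTower R A[X] B[X] := IsScalarTower.of_algebraMap_eq fun x => by
    show Polynomial.C (algebraMap R B x) = Polynomial.map (algebraMap A B) (Polynomial.C (algebraMap R A x))
    rw [Polynomial.map_C, ← IsScalarTower.algebraMap_apply]
  haveI : IsLocalization.Away (Polynomial.C (algebraMap R A r') : A[X]) B[X] := by
    have := Polynomial.isLocalization (Submonoid.powers (algebraMap R A r')) B
    rwa [Submonoid.map_powers] at this
  obtain ⟨N₁, k₁, hk₁0, hk₁⟩ :=
    F.lift A[X] B[X] (Polynomial.C (algebraMap R A r')) h h0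
  obtain ⟨a, c, hac⟩ : ∃ a c : C₀, a * algebraMap R C₀ r ^ N₂ + c * algebraMap R C₀ r' ^ N₁ = 1 := by
    obtain ⟨x, y, hxy⟩ := Ideal.mem_span_pair.mp (hrr ▸ Submodule.mem_top : (1 : C₀) ∈ _)
    exact IsCoprime.pow (m := N₂) (n := N₁) ⟨x, y, hxy⟩
  let lA : A := algebraMap C₀ A (a * algebraMap R C₀ r ^ N₂)
  let lB : B := algebraMap C₀ B (a * algebraMap R C₀ r ^ N₂)
  let ψ : A[X][X] →ₐ[R] A[X] :=
    { eval₂RingHom (eval₂RingHom Polynomial.C (Polynomial.C lA * X))
        (Polynomial.C (algebraMap C₀ A c) * X) with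
      commutes' := fun x => by simp [Polynomial.algebraMap_apply] }
  let ψB : B[X][X] →ₐ[R] B[X] :=
    { eval₂RingHom (eval₂RingHom Polynomial.C (Polynomial.C lB * X))
        (Polynomial.C (algebraMap C₀ B c) * X) with
      commutes' := fun x => by simp [Polynomial.algebraMap_apply] }
  refine ⟨F.map ψ k₁, F.map (scl R (algebraMap C₀ A' a)) k₂, ?_, ?_, ?_⟩
  · have e : (ev0 R A).comp ψ = (ev0 R A).comp (ev0 R A[X]) :=
      algHom_ext_C_X (fun f => by
        simp [ψ, ev0_apply]
        exact (coeff_scale lA f 0).trans (by simp)) (by simp [ψ])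
    rw [F.map_comp, e, ← F.map_comp, hk₁0, map_one]
  · have e : (ev0 R A').comp (scl R (algebraMap C₀ A' a)) = ev0 R A' :=
      algHom_ext_C_X (fun b => by simp [scl, scale_C]) (by simp [scl, scale_X])
    rw [F.map_comp, e, hk₂0]
  · have e1 : (mp R A B).comp ψ = ψB.comp (mp R A[X] B[X]) :=
      algHom_ext_C_X (fun f => by
        have : (Polynomial.mapRingHom (algebraMap A B)).comp
            (eval₂RingHom Polynomial.C (Polynomial.C lA * X)) =
            (eval₂RingHom Polynomial.C (Polynomial.C lB * X)).comp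
              (Polynomial.mapRingHom (algebraMap A B)) :=
          Polynomial.ringHom_ext (fun b => by simp) (by
            simp [lA, lB, ← IsScalarTower.algebraMap_apply])
        simpa [ψ, ψB, mp, Polynomial.algebraMap_def] using RingHom.congr_fun this f)
        (by simp [ψ, ψB, mp, ← IsScalarTower.algebraMap_apply])
    have e2 : (mp R A' B).comp (scl R (algebraMap C₀ A' a)) =
        (scl R (algebraMap C₀ B a)).comp (mp R A' B) :=
      algHom_ext_C_X (fun b => by simp [mp, scl, scale_C]) (by
        simp [mp, scl, scale_X, ← IsScalarTower.algebraMap_apply])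
    have hb : algebraMap A[X] B[X] (Polynomial.C (algebraMap R A r')) =
        Polynomial.C (algebraMap R B r') := by
      show Polynomial.map (algebraMap A B) _ = _
      rw [Polynomial.map_C, ← IsScalarTower.algebraMap_apply]
    rw [hb] at hk₁
    have e3 : ((ψB.comp (scl R (Polynomial.C (algebraMap R B r') ^ N₁))).comp φ₁) = AlgHom.id R B[X] :=
      algHom_ext_C_X (fun b => by simp [ψB, scl, φ₁, scale_C, Polynomial.algebraMap_apply]) (by
        simp only [ψB, scl, φ₁, lB, AlgHom.comp_apply, AlgHom.coe_restrictScalars', aeval_X,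
          AlgHom.coe_mk, map_add, scale_C, scale_X, map_mul, map_pow, coe_eval₂RingHom, eval₂_C,
          eval₂_X, eval₂_mul, eval₂_pow, eval₂_add, AlgHom.coe_id, id_eq, ← IsScalarTower.algebraMap_apply]
        have e := congrArg (fun x => (Polynomial.C (algebraMap C₀ B x) : B[X])) hac
        simp only [map_add, map_mul, map_pow, map_one, ← IsScalarTower.algebraMap_apply] at e
        linear_combination (X : B[X]) * e)
    have e4 : ((ψB.comp (scl R (Polynomial.C (algebraMap R B r') ^ N₁))).comp φ₀) = scl R lB :=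
      algHom_ext_C_X (fun b => by simp [ψB, scl, φ₀, scale_C, Polynomial.algebraMap_apply])
        (by simp [ψB, scl, φ₀, scale_C, scale_X])
    have e5 : (scl R (algebraMap C₀ B a)).comp (scl R (algebraMap R B r ^ N₂)) = scl R lB :=
      algHom_ext_C_X (fun b => by simp [scl, scale_C]) (by
        simp [scl, scale_X, scale_C, lB, ← IsScalarTower.algebraMap_apply]; ring)
    rw [F.map_comp, e1, ← F.map_comp, hk₁, F.map_comp, map_mul,
      map_inv, F.map_comp, F.map_comp, e3, e4, F.map_id,
      F.map_comp, e2, ← F.map_comp, hk₂, F.map_comp, e5, inv_mul_cancel_right]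

end PtFun

end Groth.LoopPatch
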