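import Mathlib
import Groth.Agent.LoopPatch.Functor

/-!
Points of a group scheme on a base change, and equalisers, as functors to which rescaled points lift.
-/

set_option autoImplicit false

universe u

open CategoryTheory CategoryTheory.Limits MonoidalCategory CartesianMonoidalCategory MonObj
open AlgebraicGeometry Opposite Polynomial
open Groth.SpecFerrand (Sp Sp_comp Sq)
open scoped TensorProduct

noncomputable section

namespace Groth.LoopPatch

variable {R : Type u} [CommRing R]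

@[simp]
theorem scl_C {C : Type u} [CommRing C] [Algebra R C] (c a : C) :
    scl R c (Polynomial.C a) = Polynomial.C a := scale_C c a

@[simp]
theorem scl_X {C : Type u} [CommRing C] [Algebra R C] (c : C) : scl R c (X : C[X]) = Polynomial.C c * X :=
  scale_X c

@[simp]
theorem mp_C {A B : Type u} [CommRing A] [CommRing B] [Algebra R A] [Algebra R B] [Algebra A B]
    [IsScalarTower R A B] (a : A) : mp R A B (Polynomial.C a) = Polynomial.C (algebraMap A B a) :=
  Polynomial.map_C _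

@[simp]
theorem mp_X {A B : Type u} [CommRing A] [CommRing B] [Algebra R A] [Algebra R B] [Algebra A B]
    [IsScalarTower R A B] : mp R A B (X : A[X]) = X :=
  Polynomial.map_X _

theorem scl_comp_scl {C : Type u} [CommRing C] [Algebra R C] (c d : C) :
    (scl R c).comp (scl R d) = scl R (c * d) :=
  algHom_ext_C_X (fun a => by simp) (by simp only [AlgHom.comp_apply, scl_X, map_mul, scl_C]; ring)

theorem ev0_comp_scl {C : Type u} [CommRing C] [Algebra R C] (c : C) :
    (ev0 R C).comp (scl R c) = ev0 R C :=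
  algHom_ext_C_X (fun a => by simp) (by simp)

theorem mp_comp_scl {A B : Type u} [CommRing A] [CommRing B] [Algebra R A] [Algebra R B] [Algebra A B]
    [IsScalarTower R A B] (c : A) : (mp R A B).comp (scl R c) = (scl R (algebraMap A B c)).comp (mp R A B) :=
  algHom_ext_C_X (fun a => by simp) (by simp)

/-- Pointed points with trivial image die after rescaling. -/
def PtFun.Separated (F : PtFun R) : Prop :=
  ∀ (A B : Type u) [CommRing A] [CommRing B] [Algebra R A] [Algebra R B] [Algebra A B]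
    [IsScalarTower R A B] (s : A) [IsLocalization.Away s B] (g : F.obj A[X]),
    F.map (ev0 R A) g = 1 → F.map (mp R A B) g = 1 → ∃ M : ℕ, F.map (scl R (s ^ M)) g = 1

section Scheme

variable {G : Over (Spec (CommRingCat.of R))} [GrpObj G] [LocallyOfFinitePresentation G.hom]

theorem exists_scale_eq_one {A B : Type u} [CommRing A] [CommRing B] [Algebra R A] [Algebra R B]
    [Algebra A B] [IsScalarTower R A B] (s : A) [IsLocalization.Away s B] (g : pt R A[X] ⟶ G)
    (h0 : ptMap (ev0 R A) ≫ g = 1) (h1 : ptMap (mp R A B) ≫ g = 1) :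
    ∃ M : ℕ, ptMap (scl R (s ^ M)) ≫ g = 1 := by
  let D : (ULift.{u} ℕ)ᵒᵖ ⥤ Scheme.{u} := (stageFunctor (A := A) s).op ⋙ Scheme.Spec
  let t : D ⟶ (Functor.const _).obj (Spec (CommRingCat.of R)) :=
    { app := fun _ => Sp (algebraMap R A[X])
      naturality := fun i j φ => by
        show Sp (scale (s ^ (i.unop.down - j.unop.down))) ≫ Sp (algebraMap R A[X]) =
          Sp (algebraMap R A[X]) ≫ 𝟙 _
        rw [Sp_comp, Category.comp_id]
        congr 1
        ext x : 1
        exact scale_C _ _ }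
  haveI : ∀ {i j} (φ : i ⟶ j), IsAffineHom (D.map φ) := fun {i j} φ =>
    inferInstanceAs (IsAffineHom (Spec.map ((stageFunctor (A := A) s).map φ.unop)))
  haveI : ∀ i, CompactSpace (D.obj i) := fun i =>
    inferInstanceAs (CompactSpace (Spec (CommRingCat.of A[X])))
  haveI : ∀ i, QuasiSeparatedSpace (D.obj i) := fun i =>
    inferInstanceAs (QuasiSeparatedSpace (Spec (CommRingCat.of A[X])))
  let P := glueRing A B
  let p1 : P →+* A := (RingHom.fst A B[X]).comp P.subtype
  let p2 : P →+* B[X] := (RingHom.snd A B[X]).comp P.subtype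
  have hsq : Sq p1 p2 (algebraMap A B) (evalRingHom (0 : B)) :=
    { comm := RingHom.ext fun x => x.2
      surj := fun b => ⟨Polynomial.C b, eval_C⟩
      exu := fun a f hf => ⟨⟨(a, f), hf⟩, ⟨rfl, rfl⟩, fun y hy =>
        Subtype.ext (Prod.ext hy.1 hy.2)⟩ }
  have hab : Sp (stage B s 0) ≫ g.left = Sp (stage B s 0) ≫ (1 : pt R A[X] ⟶ G).left := by
    refine Groth.SpecFerrand.hom_ext hsq ?_ ?_
    · rw [← Category.assoc, ← Category.assoc, Sp_comp,
        show p1.comp (stage B s 0) = (ev0 R A).toRingHom from RingHom.ext fun f => stage_fst (B := B) s 0 f]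
      exact congrArg CommaMorphism.left (h0.trans (MonObj.comp_one (ptMap (ev0 R A))).symm)
    · rw [← Category.assoc, ← Category.assoc, Sp_comp,
        show p2.comp (stage B s 0) = (mp R A B).toRingHom from RingHom.ext fun f => by
          refine (stage_snd s 0 f).trans ?_
          rw [pow_zero, scale_one]
          rfl]
      exact congrArg CommaMorphism.left (h1.trans (MonObj.comp_one (ptMap (mp R A B))).symm)
  obtain ⟨k, hk, heq⟩ := Scheme.exists_hom_comp_eq_comp_of_locallyOfFiniteType D t G.hom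
    (Scheme.Spec.mapCone (stageCocone B s).op)
    (isLimitOfPreserves Scheme.Spec (stageCoconeIsColimit B s).op) (i := op ⟨0⟩) g.left
    (1 : pt R A[X] ⟶ G).left (Over.w g).symm (Over.w (1 : pt R A[X] ⟶ G)).symm hab
  refine ⟨k.unop.down, Over.OverMorphism.ext ?_⟩
  rw [← MonObj.comp_one (ptMap (scl R (s ^ k.unop.down)))]
  exact heq

variable (R) in
/-- `Spec` of a base change. -/
abbrev twPt (D C : Type u) [CommRing D] [Algebra R D] [CommRing C] [Algebra R C] :
    Over (Spec (CommRingCat.of R)) :=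
  pt R (D ⊗[R] C)

/-- Base change of an algebra map. -/
abbrev twMap (D : Type u) [CommRing D] [Algebra R D] {C C' : Type u} [CommRing C] [CommRing C']
    [Algebra R C] [Algebra R C'] (φ : C →ₐ[R] C') : D ⊗[R] C →ₐ[R] D ⊗[R] C' :=
  Algebra.TensorProduct.map (AlgHom.id R D) φ

variable (D : Type u) [CommRing D] [Algebra R D]

/-- `(D ⊗ C)[X] → D ⊗ C[X]`. -/
def polyToTw (C : Type u) [CommRing C] [Algebra R C] : (D ⊗[R] C)[X] →ₐ[R] D ⊗[R] C[X] :=
  { eval₂RingHom (twMap D (Algebra.ofId C C[X] |>.restrictScalars R)).toRingHom ((1 : D) ⊗ₜ[R] (X : C[X])) with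
    commutes' := fun x => by simp [Polynomial.algebraMap_apply] }

/-- `D ⊗ C[X] → (D ⊗ C)[X]`. -/
def twToPoly (C : Type u) [CommRing C] [Algebra R C] : D ⊗[R] C[X] →ₐ[R] (D ⊗[R] C)[X] :=
  Algebra.TensorProduct.lift
    (((Algebra.ofId (D ⊗[R] C) (D ⊗[R] C)[X]).restrictScalars R).comp Algebra.TensorProduct.includeLeft)
    (mapAlgHom Algebra.TensorProduct.includeRight) fun _ _ => Commute.all _ _

theorem polyToTw_C (C : Type u) [CommRing C] [Algebra R C] (d : D) (c : C) :
    polyToTw D C (Polynomial.C (d ⊗ₜ[R] c)) = d ⊗ₜ[R] Polynomial.C c := by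
  simp [polyToTw]

theorem polyToTw_X (C : Type u) [CommRing C] [Algebra R C] :
    polyToTw (R := R) D C X = (1 : D) ⊗ₜ[R] (X : C[X]) := by
  simp [polyToTw]

theorem twToPoly_tmul (C : Type u) [CommRing C] [Algebra R C] (d : D) (f : C[X]) :
    twToPoly D C (d ⊗ₜ[R] f) =
      Polynomial.C (d ⊗ₜ[R] (1 : C)) * f.map (Algebra.TensorProduct.includeRight : C →ₐ[R] D ⊗[R] C).toRingHom := by
  simp [twToPoly]

theorem tw_hom_ext {C E : Type u} [CommRing C] [Algebra R C] [CommRing E] [Algebra R E]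
    {φ ψ : D ⊗[R] C[X] →ₐ[R] E} (h₁ : ∀ (d : D) (c : C), φ (d ⊗ₜ Polynomial.C c) = ψ (d ⊗ₜ Polynomial.C c))
    (h₂ : φ ((1 : D) ⊗ₜ (X : C[X])) = ψ ((1 : D) ⊗ₜ (X : C[X]))) : φ = ψ := by
  refine Algebra.TensorProduct.ext (AlgHom.ext fun d => ?_) (algHom_ext_C_X (fun c => h₁ 1 c) h₂)
  simpa using h₁ d 1

theorem poly_hom_ext {C E : Type u} [CommRing C] [Algebra R C] [CommRing E] [Algebra R E]
    {φ ψ : (D ⊗[R] C)[X] →ₐ[R] E}
    (h₁ : ∀ (d : D) (c : C), φ (Polynomial.C (d ⊗ₜ c)) = ψ (Polynomial.C (d ⊗ₜ c))) (h₂ : φ X = ψ X) : φ = ψ :=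
  algHom_ext_C_X (fun x => by
    induction x with
    | zero => simp
    | tmul d c => exact h₁ d c
    | add x y hx hy => simp [hx, hy]) h₂

theorem polyToTw_twToPoly (C : Type u) [CommRing C] [Algebra R C] :
    (polyToTw (R := R) D C).comp (twToPoly D C) = AlgHom.id R (D ⊗[R] C[X]) :=
  tw_hom_ext D (fun d c => by simp [twToPoly_tmul, ← map_mul, polyToTw_C])
    (by simp [twToPoly_tmul, ← Algebra.TensorProduct.one_def, polyToTw_X])

theorem ev0_twToPoly (C : Type u) [CommRing C] [Algebra R C] :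
    (ev0 R (D ⊗[R] C)).comp (twToPoly D C) = twMap D (ev0 R C) :=
  tw_hom_ext D (fun d c => by simp [twToPoly_tmul]) (by simp [twToPoly_tmul])

theorem scl_twToPoly (C : Type u) [CommRing C] [Algebra R C] (c₀ : C) :
    (scl R ((1 : D) ⊗ₜ[R] c₀)).comp (twToPoly D C) = (twToPoly D C).comp (twMap D (scl R c₀)) :=
  tw_hom_ext D (fun d c => by simp [twToPoly_tmul])
    (by simp [twToPoly_tmul, ← Algebra.TensorProduct.one_def])

theorem ev0_polyToTw (C : Type u) [CommRing C] [Algebra R C] :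
    (twMap D (ev0 R C)).comp (polyToTw D C) = ev0 R (D ⊗[R] C) :=
  poly_hom_ext D (fun d c => by simp [polyToTw_C]) (by simp [polyToTw_X])

theorem mp_twToPoly (A B : Type u) [CommRing A] [CommRing B] [Algebra R A] [Algebra R B] [Algebra A B]
    [IsScalarTower R A B] [Algebra (D ⊗[R] A) (D ⊗[R] B)] [IsScalarTower R (D ⊗[R] A) (D ⊗[R] B)]
    (halg : ∀ (d : D) (a : A), algebraMap (D ⊗[R] A) (D ⊗[R] B) (d ⊗ₜ a) = d ⊗ₜ algebraMap A B a) :
    (mp R (D ⊗[R] A) (D ⊗[R] B)).comp (twToPoly D A) = (twToPoly D B).comp (twMap D (mp R A B)) :=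
  tw_hom_ext D (fun d c => by simp [twToPoly_tmul, halg])
    (by simp [twToPoly_tmul, halg, ← Algebra.TensorProduct.one_def])

theorem mp_polyToTw (A B : Type u) [CommRing A] [CommRing B] [Algebra R A] [Algebra R B] [Algebra A B]
    [IsScalarTower R A B] [Algebra (D ⊗[R] A) (D ⊗[R] B)] [IsScalarTower R (D ⊗[R] A) (D ⊗[R] B)]
    (halg : ∀ (d : D) (a : A), algebraMap (D ⊗[R] A) (D ⊗[R] B) (d ⊗ₜ a) = d ⊗ₜ algebraMap A B a) :
    (twMap D (mp R A B)).comp (polyToTw D A) = (polyToTw D B).comp (mp R (D ⊗[R] A) (D ⊗[R] B)) :=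
  poly_hom_ext D (fun d c => by simp [polyToTw_C, halg]) (by simp [polyToTw_X])

variable (G) in
/-- Points on the base change to `D`, as a functor. -/
def twFun : PtFun R where
  obj C _ _ := GrpCat.of (twPt R D C ⟶ G)
  map φ := MonoidHom.mk' (fun g => ptMap (twMap D φ) ≫ g) fun g g' => MonObj.comp_mul _ _ _
  map_id x := by
    show ptMap (twMap D (AlgHom.id R _)) ≫ x = x
    rw [show twMap D (AlgHom.id R _) = AlgHom.id R _ from Algebra.TensorProduct.map_id, ptMap_id,
      Category.id_comp]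
  map_comp φ ψ x := by
    show ptMap (twMap D ψ) ≫ ptMap (twMap D φ) ≫ x = ptMap (twMap D (ψ.comp φ)) ≫ x
    rw [ptMap_comp_assoc]
    congr 2
    exact Algebra.TensorProduct.ext (AlgHom.ext fun d => by simp) (AlgHom.ext fun c => by simp)
  lift A B _ _ _ _ _ _ s _ h hh := by
    change ptMap (twMap D (ev0 R B)) ≫ h = 1 at hh
    letI := (twMap D (IsScalarTower.toAlgHom R A B)).toRingHom.toAlgebra
    haveI : IsScalarTower R (D ⊗[R] A) (D ⊗[R] B) :=
      IsScalarTower.of_algebraMap_eq fun r => ((twMap D (IsScalarTower.toAlgHom R A B)).commutes r).symm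
    have halg : ∀ (d : D) (a : A), algebraMap (D ⊗[R] A) (D ⊗[R] B) (d ⊗ₜ a) = d ⊗ₜ algebraMap A B a :=
      fun d a => rfl
    haveI : IsScalarTower D (D ⊗[R] A) (D ⊗[R] B) := IsScalarTower.of_algebraMap_eq fun d => by
      simp [Algebra.TensorProduct.algebraMap_apply, halg]
    haveI : IsLocalization.Away ((1 : D) ⊗ₜ[R] s) (D ⊗[R] B) := by
      have := IsLocalization.tensorProduct_tensorProduct_right R D (Submonoid.powers s) B
        (RingHom.ext fun a => halg 1 a)
      rwa [Submonoid.map_powers, Algebra.TensorProduct.includeRight_apply] at this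
    obtain ⟨N, g, hg0, hg⟩ := exists_lift ((1 : D) ⊗ₜ[R] s) (ptMap (twToPoly (R := R) D B) ≫ h) (by
      rw [ptMap_comp_assoc, ev0_twToPoly, hh])
    refine ⟨N, ptMap (polyToTw (R := R) D A) ≫ g, ?_, ?_⟩
    · show ptMap (twMap D (ev0 R A)) ≫ ptMap (polyToTw (R := R) D A) ≫ g = 1
      rw [ptMap_comp_assoc, ev0_polyToTw, hg0]
    · show ptMap (twMap D (mp R A B)) ≫ ptMap (polyToTw (R := R) D A) ≫ g =
        ptMap (twMap D (scl R (algebraMap A B s ^ N))) ≫ h
      rw [halg, Algebra.TensorProduct.tmul_pow, one_pow] at hg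
      rw [ptMap_comp_assoc, mp_polyToTw D A B halg, ← ptMap_comp_assoc, hg, ptMap_comp_assoc (twToPoly (R := R) D B),
        scl_twToPoly, ← ptMap_comp_assoc (twMap D _), ← Category.assoc, ptMap_comp, polyToTw_twToPoly, ptMap_id,
        Category.id_comp]

theorem exists_twScale_eq_one {A B : Type u} [CommRing A] [CommRing B] [Algebra R A] [Algebra R B]
    [Algebra A B] [IsScalarTower R A B] (s : A) [IsLocalization.Away s B] (g : twPt R D A[X] ⟶ G)
    (h0 : ptMap (twMap D (ev0 R A)) ≫ g = 1) (h1 : ptMap (twMap D (mp R A B)) ≫ g = 1) :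
    ∃ M : ℕ, ptMap (twMap D (scl R (s ^ M))) ≫ g = 1 := by
  letI := (twMap D (IsScalarTower.toAlgHom R A B)).toRingHom.toAlgebra
  haveI : IsScalarTower R (D ⊗[R] A) (D ⊗[R] B) :=
    IsScalarTower.of_algebraMap_eq fun r => ((twMap D (IsScalarTower.toAlgHom R A B)).commutes r).symm
  have halg : ∀ (d : D) (a : A), algebraMap (D ⊗[R] A) (D ⊗[R] B) (d ⊗ₜ a) = d ⊗ₜ algebraMap A B a :=
    fun d a => rfl
  haveI : IsScalarTower D (D ⊗[R] A) (D ⊗[R] B) := IsScalarTower.of_algebraMap_eq fun d => by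
    simp [Algebra.TensorProduct.algebraMap_apply, halg]
  haveI : IsLocalization.Away ((1 : D) ⊗ₜ[R] s) (D ⊗[R] B) := by
    have := IsLocalization.tensorProduct_tensorProduct_right R D (Submonoid.powers s) B
      (RingHom.ext fun a => halg 1 a)
    rwa [Submonoid.map_powers, Algebra.TensorProduct.includeRight_apply] at this
  obtain ⟨M, hM⟩ := exists_scale_eq_one (B := D ⊗[R] B) ((1 : D) ⊗ₜ[R] s) (ptMap (twToPoly (R := R) D A) ≫ g)
    (by rw [ptMap_comp_assoc, ev0_twToPoly, h0])
    (by rw [ptMap_comp_assoc, mp_twToPoly D A B halg, ← ptMap_comp_assoc, h1, MonObj.comp_one])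
  refine ⟨M, ?_⟩
  rw [Algebra.TensorProduct.tmul_pow, one_pow, ptMap_comp_assoc, scl_twToPoly, ← ptMap_comp_assoc] at hM
  have := congrArg (ptMap (polyToTw (R := R) D A) ≫ ·) hM
  simp only [MonObj.comp_one] at this
  rwa [← Category.assoc, ptMap_comp, polyToTw_twToPoly, ptMap_id, Category.id_comp] at this

theorem twFun_separated : (twFun G D).Separated :=
  fun _ _ _ _ _ _ _ _ s _ g h0 h1 => exists_twScale_eq_one D s g h0 h1

end Scheme

section Equalizer

variable (F₁ F₂ : PtFun R) (u v : ∀ (C : Type u) [CommRing C] [Algebra R C], F₁.obj C →* F₂.obj C)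
  (hu : ∀ {C C' : Type u} [CommRing C] [CommRing C'] [Algebra R C] [Algebra R C'] (φ : C →ₐ[R] C') (x : F₁.obj C),
    F₂.map φ (u C x) = u C' (F₁.map φ x))
  (hv : ∀ {C C' : Type u} [CommRing C] [CommRing C'] [Algebra R C] [Algebra R C'] (φ : C →ₐ[R] C') (x : F₁.obj C),
    F₂.map φ (v C x) = v C' (F₁.map φ x))

/-- The equaliser of two natural homomorphisms. -/
def eqFun (hsep : F₂.Separated) : PtFun R where
  obj C _ _ := GrpCat.of (MonoidHom.eqLocus (u C) (v C))
  map {C C'} _ _ _ _ φ :=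
    ((F₁.map φ).comp (MonoidHom.eqLocus (u C) (v C)).subtype).codRestrict (MonoidHom.eqLocus (u C') (v C'))
      fun x => by
        show u C' (F₁.map φ x.1) = v C' (F₁.map φ x.1)
        rw [← hu, ← hv]
        exact congrArg (F₂.map φ) x.2
  map_id x := Subtype.ext (F₁.map_id x.1)
  map_comp φ ψ x := Subtype.ext (F₁.map_comp φ ψ x.1)
  lift A B _ _ _ _ _ _ s _ h hh := by
    obtain ⟨N, g, hg0, hg⟩ := F₁.lift A B s h.1 (congrArg Subtype.val hh)
    obtain ⟨M, hM⟩ := hsep A B s (u A[X] g * (v A[X] g)⁻¹)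
      (by rw [map_mul, map_inv, hu, hv, hg0, map_one, map_one, inv_one, _root_.mul_one])
      (by
        rw [map_mul, map_inv, hu, hv, hg, ← hu, ← hv, h.2, mul_inv_cancel])
    refine ⟨N + M, ⟨F₁.map (scl R (s ^ M)) g, ?_⟩, Subtype.ext ?_, Subtype.ext ?_⟩
    · show u A[X] _ = v A[X] _
      rw [← hu, ← hv, ← mul_inv_eq_one, ← map_inv, ← map_mul]
      exact hM
    · show F₁.map (ev0 R A) (F₁.map (scl R (s ^ M)) g) = 1
      rw [F₁.map_comp, ev0_comp_scl, hg0]
    · show F₁.map (mp R A B) (F₁.map (scl R (s ^ M)) g) = F₁.map (scl R (algebraMap A B s ^ (N + M))) h.1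
      rw [F₁.map_comp, mp_comp_scl, ← F₁.map_comp, hg, F₁.map_comp, scl_comp_scl, map_pow, ← pow_add,
        Nat.add_comm N M]

end Equalizer

end Groth.LoopPatch
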