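import Mathlib

/-!
Glueing morphisms on two basic opens covering an affine scheme.
-/

set_option autoImplicit false

universe u

open CategoryTheory CategoryTheory.Limits AlgebraicGeometry

noncomputable section

namespace Groth.LoopPatch

variable {P Pf Pg Pfg : Type u} [CommRing P] [CommRing Pf] [CommRing Pg] [CommRing Pfg] [Algebra P Pf]
  [Algebra P Pg] (f g : P) [IsLocalization.Away f Pf] [IsLocalization.Away g Pg]

include f g in
theorem hom_ext_two (hfg : Ideal.span ({f, g} : Set P) = ⊤) {Y : Scheme.{u}}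
    (u v : Spec (CommRingCat.of P) ⟶ Y)
    (h₁ : Spec.map (CommRingCat.ofHom (algebraMap P Pf)) ≫ u = Spec.map (CommRingCat.ofHom (algebraMap P Pf)) ≫ v)
    (h₂ : Spec.map (CommRingCat.ofHom (algebraMap P Pg)) ≫ u = Spec.map (CommRingCat.ofHom (algebraMap P Pg)) ≫ v) :
    u = v := by
  haveI : IsOpenImmersion (Spec.map (CommRingCat.ofHom (algebraMap P Pf))) := .of_isLocalization f
  haveI : IsOpenImmersion (Spec.map (CommRingCat.ofHom (algebraMap P Pg))) := .of_isLocalization g
  let 𝒰 : (Spec (CommRingCat.of P)).OpenCover := Scheme.Cover.mkOfCovers (ULift.{u} Bool)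
    (fun i => bif i.down then Spec (CommRingCat.of Pf) else Spec (CommRingCat.of Pg))
    (fun ⟨i⟩ => match i with
      | true => Spec.map (CommRingCat.ofHom (algebraMap P Pf))
      | false => Spec.map (CommRingCat.ofHom (algebraMap P Pg)))
    (fun x => by
      by_cases hf : f ∈ (x : PrimeSpectrum P).asIdeal
      · have hg : g ∉ (x : PrimeSpectrum P).asIdeal := fun hg => (x : PrimeSpectrum P).2.ne_top
          (top_le_iff.1 (hfg ▸ Ideal.span_le.2 (by rintro _ (rfl | rfl) <;> assumption)))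
        obtain ⟨y, hy⟩ : (x : PrimeSpectrum P) ∈ Set.range (PrimeSpectrum.comap (algebraMap P Pg)) := by
          rw [PrimeSpectrum.localization_away_comap_range Pg g]; exact hg
        exact ⟨⟨false⟩, y, hy⟩
      · obtain ⟨y, hy⟩ : (x : PrimeSpectrum P) ∈ Set.range (PrimeSpectrum.comap (algebraMap P Pf)) := by
          rw [PrimeSpectrum.localization_away_comap_range Pf f]; exact hf
        exact ⟨⟨true⟩, y, hy⟩)
    (fun ⟨i⟩ => by cases i <;> infer_instance)
  exact Scheme.Cover.hom_ext 𝒰 _ _ fun ⟨i⟩ => by cases i <;> assumption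

variable [Algebra P Pfg] [Algebra Pf Pfg] [Algebra Pg Pfg] [IsScalarTower P Pf Pfg] [IsScalarTower P Pg Pfg]
  [IsLocalization.Away (algebraMap P Pf g) Pfg]

include f g in
theorem exists_glue_two (hfg : Ideal.span ({f, g} : Set P) = ⊤) {Y : Scheme.{u}}
    (u : Spec (CommRingCat.of Pf) ⟶ Y) (v : Spec (CommRingCat.of Pg) ⟶ Y)
    (huv : Spec.map (CommRingCat.ofHom (algebraMap Pf Pfg)) ≫ u =
      Spec.map (CommRingCat.ofHom (algebraMap Pg Pfg)) ≫ v) :
    ∃ w : Spec (CommRingCat.of P) ⟶ Y, Spec.map (CommRingCat.ofHom (algebraMap P Pf)) ≫ w = u ∧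
      Spec.map (CommRingCat.ofHom (algebraMap P Pg)) ≫ w = v := by
  let j₁ := Spec.map (CommRingCat.ofHom (algebraMap P Pf))
  let j₂ := Spec.map (CommRingCat.ofHom (algebraMap P Pg))
  haveI : IsOpenImmersion j₁ := .of_isLocalization f
  haveI : IsOpenImmersion j₂ := .of_isLocalization g
  haveI : IsLocalization (Submonoid.map (algebraMap P Pf) (Submonoid.powers g)) Pfg := by
    rw [Submonoid.map_powers]; infer_instance
  have hpb : IsPullback (Spec.map (CommRingCat.ofHom (algebraMap Pf Pfg)))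
      (Spec.map (CommRingCat.ofHom (algebraMap Pg Pfg))) j₁ j₂ :=
    isPullback_SpecMap_of_isPushout _ _ _ _
      (CommRingCat.isPushout_of_isLocalization (algebraMap P Pf) (algebraMap Pg Pfg)
        (by rw [← IsScalarTower.algebraMap_eq, ← IsScalarTower.algebraMap_eq]) (Submonoid.powers g))
  let X' : ULift.{u} Bool → Scheme.{u} :=
    fun i => bif i.down then Spec (CommRingCat.of Pf) else Spec (CommRingCat.of Pg)
  let 𝒰 : (Spec (CommRingCat.of P)).OpenCover := Scheme.Cover.mkOfCovers (ULift.{u} Bool) X'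
    (fun ⟨i⟩ => match i with
      | true => j₁
      | false => j₂)
    (fun x => by
      by_cases hf : f ∈ (x : PrimeSpectrum P).asIdeal
      · have hg : g ∉ (x : PrimeSpectrum P).asIdeal := fun hg => (x : PrimeSpectrum P).2.ne_top
          (top_le_iff.1 (hfg ▸ Ideal.span_le.2 (by rintro _ (rfl | rfl) <;> assumption)))
        obtain ⟨y, hy⟩ : (x : PrimeSpectrum P) ∈ Set.range (PrimeSpectrum.comap (algebraMap P Pg)) := by
          rw [PrimeSpectrum.localization_away_comap_range Pg g]; exact hg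
        exact ⟨⟨false⟩, y, hy⟩
      · obtain ⟨y, hy⟩ : (x : PrimeSpectrum P) ∈ Set.range (PrimeSpectrum.comap (algebraMap P Pf)) := by
          rw [PrimeSpectrum.localization_away_comap_range Pf f]; exact hf
        exact ⟨⟨true⟩, y, hy⟩)
    (fun ⟨i⟩ => by cases i <;> infer_instance)
  let φ : ∀ i, 𝒰.X i ⟶ Y := fun ⟨i⟩ => match i with
    | true => u
    | false => v
  have hφ : ∀ i k, pullback.fst (𝒰.f i) (𝒰.f k) ≫ φ i = pullback.snd _ _ ≫ φ k := by
    rintro ⟨i⟩ ⟨k⟩
    cases i <;> cases k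
    · show pullback.fst j₂ j₂ ≫ v = pullback.snd j₂ j₂ ≫ v
      rw [fst_eq_snd_of_mono_eq]
    · show pullback.fst j₂ j₁ ≫ v = pullback.snd j₂ j₁ ≫ u
      rw [← cancel_epi hpb.flip.isoPullback.hom, ← Category.assoc, ← Category.assoc,
        IsPullback.isoPullback_hom_fst, IsPullback.isoPullback_hom_snd]
      exact huv.symm
    · show pullback.fst j₁ j₂ ≫ u = pullback.snd j₁ j₂ ≫ v
      rw [← cancel_epi hpb.isoPullback.hom, ← Category.assoc, ← Category.assoc,
        IsPullback.isoPullback_hom_fst, IsPullback.isoPullback_hom_snd]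
      exact huv
    · show pullback.fst j₁ j₁ ≫ u = pullback.snd j₁ j₁ ≫ u
      rw [fst_eq_snd_of_mono_eq]
  exact ⟨𝒰.glueMorphisms φ hφ, 𝒰.ι_glueMorphisms φ hφ ⟨true⟩, 𝒰.ι_glueMorphisms φ hφ ⟨false⟩⟩

end Groth.LoopPatch
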