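import Mathlib
import Groth.Agent.LoopPatch.PointFun
import Groth.Agent.LoopPatch.GlueTwo

/-!
Splitting sections of a functor trivial at `0`, and glueing over twisted localisations.
-/

set_option autoImplicit false

universe u

open CategoryTheory CategoryTheory.Limits AlgebraicGeometry Polynomial
open scoped TensorProduct
open Groth.SpecFerrand (Sp Sp_comp)

noncomputable section

namespace Groth.LoopPatch

variable {R : Type u} [CommRing R] {C₀ : Type u} [CommRing C₀] [Algebra R C₀] (z : C₀ →ₐ[R] R)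

/-- A localisation and its points at `0`. -/
theorem exists_retr (r : R) {C L : Type u} [CommRing C] [CommRing L] [Algebra R C] [Algebra R L]
    [Algebra C₀ C] [IsScalarTower R C₀ C] [IsLocalization.Away (algebraMap R C₀ r) C]
    [IsLocalization.Away r L] :
    ∃ (ρ : C →ₐ[R] L) (jn : L →ₐ[R] C), ρ.comp (IsScalarTower.toAlgHom R C₀ C) = (Algebra.ofId R L).comp z ∧
      ρ.comp jn = AlgHom.id R L := by
  have hu : ∀ y : Submonoid.powers (algebraMap R C₀ r), IsUnit (((Algebra.ofId R L).comp z) y) := by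
    rintro ⟨_, k, rfl⟩
    rw [map_pow, AlgHom.commutes]
    exact (IsLocalization.Away.algebraMap_isUnit r).pow k
  have hv : ∀ y : Submonoid.powers r, IsUnit ((Algebra.ofId R C) y) := by
    rintro ⟨_, k, rfl⟩
    rw [map_pow]
    show IsUnit (algebraMap R C r ^ k)
    rw [IsScalarTower.algebraMap_apply R C₀ C]
    exact (IsLocalization.Away.algebraMap_isUnit (algebraMap R C₀ r)).pow k
  refine ⟨IsLocalization.liftAlgHom (S := C) hu, IsLocalization.liftAlgHom (S := L) hv, ?_, ?_⟩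
  · exact AlgHom.ext fun c => IsLocalization.lift_eq _ c
  · exact AlgHom.coe_ringHom_injective (IsLocalization.ringHom_ext (Submonoid.powers r)
      (RingHom.ext fun x => by simp))

/-- Retractions to `0` commute with localisation maps. -/
theorem retr_comp {s : R} {C B K L : Type u} [CommRing C] [CommRing B] [CommRing K] [CommRing L]
    [Algebra R C] [Algebra R B] [Algebra R K] [Algebra R L] [Algebra C₀ C] [IsScalarTower R C₀ C]
    [IsLocalization.Away (algebraMap R C₀ s) C] [IsLocalization.Away s L]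
    {ρ : C →ₐ[R] L} (hρ : ρ.comp (IsScalarTower.toAlgHom R C₀ C) = (Algebra.ofId R L).comp z)
    {ρB : B →ₐ[R] K} {cB : C₀ →ₐ[R] B} (hρB : ρB.comp cB = (Algebra.ofId R K).comp z)
    {m : C →ₐ[R] B} (hm : m.comp (IsScalarTower.toAlgHom R C₀ C) = cB) (hs : IsUnit (algebraMap R K s)) :
    ∃ κ : L →ₐ[R] K, ρB.comp m = κ.comp ρ := by
  have hk : ∀ p : Submonoid.powers s, IsUnit ((Algebra.ofId R K) p) := by
    rintro ⟨_, k, rfl⟩
    rw [map_pow]
    exact hs.pow k
  refine ⟨IsLocalization.liftAlgHom (S := L) hk,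
    AlgHom.coe_ringHom_injective (IsLocalization.ringHom_ext (Submonoid.powers (algebraMap R C₀ s))
      (RingHom.ext fun c => ?_))⟩
  have h1 := AlgHom.congr_fun hρ c
  have h2 := AlgHom.congr_fun hm c
  simp only [AlgHom.comp_apply, IsScalarTower.coe_toAlgHom'] at h1 h2
  show ρB (m (algebraMap C₀ C c)) = IsLocalization.liftAlgHom (S := L) hk (ρ (algebraMap C₀ C c))
  rw [h1, h2]
  exact (AlgHom.congr_fun hρB c).trans (AlgHom.commutes _ (z c)).symm

/-- A section trivial at `0` splits along two localisations. -/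
theorem PtFun.split (F : PtFun R) (sc : C₀ →ₐ[R] C₀[X])
    (hsc₀ : (ev0 R C₀).comp sc = (Algebra.ofId R C₀).comp z) (hsc₁ : ∀ c, (sc c).eval 1 = c)
    {Q : Type u} [CommRing Q] [Algebra R Q] {r r' p : R}
    (hrr : Ideal.span ({algebraMap R Q r, algebraMap R Q r'} : Set Q) = ⊤)
    {C C' B K : Type u} [CommRing C] [CommRing C'] [CommRing B] [CommRing K] [Algebra R C] [Algebra R C']
    [Algebra R B] [Algebra R K] [Algebra C₀ B] [IsScalarTower R C₀ B] [Algebra Q C] [Algebra Q C'] [Algebra Q B]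
    [IsScalarTower R Q C] [IsScalarTower R Q C'] [IsScalarTower R Q B]
    [IsLocalization.Away (algebraMap R Q r) C] [IsLocalization.Away (algebraMap R Q r') C']
    [IsLocalization.Away (algebraMap R Q r * algebraMap R Q r') B]
    [IsLocalization.Away (algebraMap R C₀ p) B]
    [Algebra C B] [Algebra C' B] [IsScalarTower R C B] [IsScalarTower R C' B] [IsScalarTower Q C B]
    [IsScalarTower Q C' B] (ρB : B →ₐ[R] K) (jB : K →ₐ[R] B)
    (hρcB : ρB.comp (IsScalarTower.toAlgHom R C₀ B) = (Algebra.ofId R K).comp z)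
    (θ : F.obj B) (hθ : F.map ρB θ = 1) :
    ∃ (θ₁ : F.obj C) (θ₂ : F.obj C'),
      θ = F.map (IsScalarTower.toAlgHom R C B) θ₁ * F.map (IsScalarTower.toAlgHom R C' B) θ₂ := by
  let cB : C₀ →ₐ[R] B := IsScalarTower.toAlgHom R C₀ B
  let cBX : C₀ →ₐ[R] B[X] := (Polynomial.mapAlgHom cB).comp sc
  have hcBX : ∀ x : R, cBX (algebraMap R C₀ x) = Polynomial.C (cB (algebraMap R C₀ x)) := fun x => by
    rw [AlgHom.commutes, AlgHom.commutes]; rfl
  have huX : ∀ y : Submonoid.powers (algebraMap R C₀ p), IsUnit (cBX y) := by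
    rintro ⟨_, k, rfl⟩
    exact (congrArg IsUnit ((map_pow cBX _ k).trans (congrArg (· ^ k) (hcBX p)))).mpr
      (((IsLocalization.Away.algebraMap_isUnit (S := B) (algebraMap R C₀ p)).map Polynomial.C).pow k)
  let scB : B →ₐ[R] B[X] := IsLocalization.liftAlgHom (S := B) huX
  have hsc : ∀ c, scB (algebraMap C₀ B c) = (sc c).map (cB : C₀ →+* B) := fun c =>
    IsLocalization.lift_eq _ c
  let e1 : B[X] →ₐ[R] B := (Polynomial.aeval (1 : B)).restrictScalars R
  let e1C : C[X] →ₐ[R] C := (Polynomial.aeval (1 : C)).restrictScalars R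
  let e1C' : C'[X] →ₐ[R] C' := (Polynomial.aeval (1 : C')).restrictScalars R
  have hev1 : e1.comp scB = AlgHom.id R B := by
    refine AlgHom.coe_ringHom_injective
      (IsLocalization.ringHom_ext (Submonoid.powers (algebraMap R C₀ p)) ?_)
    refine RingHom.ext fun c => ?_
    show e1 (scB (algebraMap C₀ B c)) = algebraMap C₀ B c
    rw [hsc]
    show Polynomial.aeval (1 : B) ((sc c).map (cB : C₀ →+* B)) = _
    rw [Polynomial.coe_aeval_eq_eval, ← map_one (cB : C₀ →+* B), Polynomial.eval_map_apply, hsc₁]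
    rfl
  have hev0 : (ev0 R B).comp scB = jB.comp ρB := by
    refine AlgHom.coe_ringHom_injective
      (IsLocalization.ringHom_ext (Submonoid.powers (algebraMap R C₀ p)) ?_)
    refine RingHom.ext fun c => ?_
    show ev0 R B (scB (algebraMap C₀ B c)) = jB (ρB (algebraMap C₀ B c))
    rw [hsc, ev0_apply, Polynomial.coeff_map, ← ev0_apply (R := R),
      show ev0 R C₀ (sc c) = algebraMap R C₀ (z c) from AlgHom.congr_fun hsc₀ c]
    exact (cB.commutes _).trans ((jB.commutes _).symm.trans (congrArg jB (AlgHom.congr_fun hρcB c).symm))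
  obtain ⟨θ₁, θ₂, -, -, h12⟩ := F.points_eq_mul (C₀ := Q) hrr (A := C) (A' := C') (B := B) (F.map scB θ)
    (by rw [F.map_comp, hev0, ← F.map_comp, hθ, map_one])
  refine ⟨F.map e1C θ₁, F.map e1C' θ₂, ?_⟩
  have e := congrArg (F.map e1) h12
  rw [F.map_comp, hev1, F.map_id, map_mul, F.map_comp, F.map_comp] at e
  have hc : e1.comp (mp R C B) = (IsScalarTower.toAlgHom R C B).comp e1C :=
    algHom_ext_C_X (fun c => by simp [e1, e1C]) (by simp [e1, e1C])
  have hc' : e1.comp (mp R C' B) = (IsScalarTower.toAlgHom R C' B).comp e1C' :=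
    algHom_ext_C_X (fun c => by simp [e1, e1C']) (by simp [e1, e1C'])
  rw [F.map_comp, F.map_comp, ← hc, ← hc']
  exact e

variable (D : Type u) [CommRing D] [Algebra R D]

theorem isLocalization_tw {C₁ C₂ : Type u} [CommRing C₁] [CommRing C₂] [Algebra R C₁] [Algebra R C₂]
    [Algebra C₁ C₂] [IsScalarTower R C₁ C₂] (s : C₁) [IsLocalization.Away s C₂]
    [Algebra (D ⊗[R] C₁) (D ⊗[R] C₂)]
    (halg : ∀ (d : D) (c : C₁), algebraMap (D ⊗[R] C₁) (D ⊗[R] C₂) (d ⊗ₜ c) = d ⊗ₜ algebraMap C₁ C₂ c) :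
    IsLocalization.Away ((1 : D) ⊗ₜ[R] s) (D ⊗[R] C₂) := by
  haveI : IsScalarTower D (D ⊗[R] C₁) (D ⊗[R] C₂) := IsScalarTower.of_algebraMap_eq fun d => by
    simp [Algebra.TensorProduct.algebraMap_apply, halg]
  have := IsLocalization.tensorProduct_tensorProduct_right R D (Submonoid.powers s) C₂
    (RingHom.ext fun c => halg 1 c)
  rwa [Submonoid.map_powers, Algebra.TensorProduct.includeRight_apply] at this

theorem span_tw {r r' : R} (hrr : Ideal.span ({algebraMap R C₀ r, algebraMap R C₀ r'} : Set C₀) = ⊤) :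
    Ideal.span ({(1 : D) ⊗ₜ[R] algebraMap R C₀ r, (1 : D) ⊗ₜ[R] algebraMap R C₀ r'} : Set (D ⊗[R] C₀)) = ⊤ := by
  have := congrArg (Ideal.map (Algebra.TensorProduct.includeRight : C₀ →ₐ[R] D ⊗[R] C₀).toRingHom) hrr
  rwa [Ideal.map_span, Set.image_pair, Ideal.map_top] at this

theorem glue_tw {r r' : R} (hrr : Ideal.span ({algebraMap R C₀ r, algebraMap R C₀ r'} : Set C₀) = ⊤)
    {C C' B : Type u} [CommRing C] [CommRing C'] [CommRing B] [Algebra R C] [Algebra R C']
    [Algebra R B] [Algebra C₀ C] [Algebra C₀ C'] [Algebra C₀ B] [IsScalarTower R C₀ C]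
    [IsScalarTower R C₀ C'] [IsLocalization.Away (algebraMap R C₀ r) C]
    [IsLocalization.Away (algebraMap R C₀ r') C']
    [IsLocalization.Away (algebraMap R C₀ r * algebraMap R C₀ r') B]
    [Algebra C B] [Algebra C' B] [IsScalarTower R C B] [IsScalarTower R C' B] [IsScalarTower C₀ C B]
    [IsScalarTower C₀ C' B] (Y : Scheme.{u}) :
    (∀ v v' : Spec (CommRingCat.of (D ⊗[R] C₀)) ⟶ Y,
      Sp (twMap D (IsScalarTower.toAlgHom R C₀ C)).toRingHom ≫ v =
        Sp (twMap D (IsScalarTower.toAlgHom R C₀ C)).toRingHom ≫ v' →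
      Sp (twMap D (IsScalarTower.toAlgHom R C₀ C')).toRingHom ≫ v =
        Sp (twMap D (IsScalarTower.toAlgHom R C₀ C')).toRingHom ≫ v' → v = v') ∧
    (∀ (u₁ : Spec (CommRingCat.of (D ⊗[R] C)) ⟶ Y) (u₂ : Spec (CommRingCat.of (D ⊗[R] C')) ⟶ Y),
      Sp (twMap D (IsScalarTower.toAlgHom R C B)).toRingHom ≫ u₁ =
        Sp (twMap D (IsScalarTower.toAlgHom R C' B)).toRingHom ≫ u₂ →
      ∃ v, Sp (twMap D (IsScalarTower.toAlgHom R C₀ C)).toRingHom ≫ v = u₁ ∧
        Sp (twMap D (IsScalarTower.toAlgHom R C₀ C')).toRingHom ≫ v = u₂) := by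
  letI := (twMap D (IsScalarTower.toAlgHom R C₀ C)).toRingHom.toAlgebra
  letI := (twMap D (IsScalarTower.toAlgHom R C₀ C')).toRingHom.toAlgebra
  letI := (twMap D (IsScalarTower.toAlgHom R C B)).toRingHom.toAlgebra
  letI := (twMap D (IsScalarTower.toAlgHom R C' B)).toRingHom.toAlgebra
  letI := ((twMap D (IsScalarTower.toAlgHom R C B)).comp (twMap D (IsScalarTower.toAlgHom R C₀ C))).toRingHom.toAlgebra
  haveI := isLocalization_tw D (C₁ := C₀) (C₂ := C) (algebraMap R C₀ r) (R := R) fun d c => rfl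
  haveI := isLocalization_tw D (C₁ := C₀) (C₂ := C') (algebraMap R C₀ r') (R := R) fun d c => rfl
  haveI : IsLocalization.Away (algebraMap C₀ C (algebraMap R C₀ r')) B := by
    haveI : IsLocalization.Away (algebraMap R C₀ r' * algebraMap R C₀ r) B := by
      rw [mul_comm]; infer_instance
    exact away_left (R := C₀) (r := algebraMap R C₀ r') (r' := algebraMap R C₀ r) C B
  haveI : IsLocalization.Away (algebraMap (D ⊗[R] C₀) (D ⊗[R] C) ((1 : D) ⊗ₜ[R] algebraMap R C₀ r'))
      (D ⊗[R] B) :=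
    isLocalization_tw D (C₁ := C) (C₂ := B) (algebraMap C₀ C (algebraMap R C₀ r')) (R := R) fun d c => rfl
  haveI : IsScalarTower (D ⊗[R] C₀) (D ⊗[R] C) (D ⊗[R] B) := IsScalarTower.of_algebraMap_eq fun x => rfl
  haveI : IsScalarTower (D ⊗[R] C₀) (D ⊗[R] C') (D ⊗[R] B) := IsScalarTower.of_algebraMap_eq fun x => by
    induction x with
    | zero => simp
    | tmul d c =>
      show d ⊗ₜ[R] algebraMap C B (algebraMap C₀ C c) = d ⊗ₜ[R] algebraMap C' B (algebraMap C₀ C' c)
      rw [← IsScalarTower.algebraMap_apply, ← IsScalarTower.algebraMap_apply]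
    | add p q hp hq => simp [hp, hq]
  exact ⟨hom_ext_two _ _ (span_tw D hrr), fun u₁ u₂ h => exists_glue_two _ _ (span_tw D hrr) u₁ u₂ h⟩

end Groth.LoopPatch
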