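import Mathlib
import Groth.Agent.LoopPatch.PointFun
import Groth.Agent.LoopPatch.Split
import Groth.Agent.TorsProper.PushPts

/-!
Quillen patching for torsors: descended forms on two localisations patch.
-/

set_option autoImplicit false
set_option backward.isDefEq.respectTransparency false

universe u

open CategoryTheory CategoryTheory.Limits MonoidalCategory CartesianMonoidalCategory MonObj GrpObj
open AlgebraicGeometry
open scoped TensorProduct
open Groth.SpecFerrand (Sp Sp_comp)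
open Groth.TorsProper Groth.TorsProper.PushPts

noncomputable section

namespace Groth.LoopPatch.Patch

attribute [local instance 10000] CategoryTheory.Hom.group
set_option synthInstance.maxHeartbeats 400000

variable {R : Type u} [CommRing R] {S : Scheme.{u}} (σ : S ≅ Spec (CommRingCat.of R))

/-- `Spec C` over `S`. -/
abbrev ptS (C : Type u) [CommRing C] [Algebra R C] : Over S := (Over.map σ.inv).obj (pt R C)

/-- Functoriality. -/
abbrev ptSMap {C C' : Type u} [CommRing C] [CommRing C'] [Algebra R C] [Algebra R C'] (φ : C →ₐ[R] C') :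
    ptS σ C' ⟶ ptS σ C :=
  (Over.map σ.inv).map (ptMap φ)

theorem ptSMap_comp {C D E : Type u} [CommRing C] [CommRing D] [CommRing E] [Algebra R C] [Algebra R D]
    [Algebra R E] (φ : C →ₐ[R] D) (ψ : D →ₐ[R] E) :
    ptSMap σ ψ ≫ ptSMap σ φ = ptSMap σ (ψ.comp φ) := by
  rw [← Functor.map_comp, ptMap_comp]

theorem ptSMap_comp_assoc {C D E : Type u} [CommRing C] [CommRing D] [CommRing E] [Algebra R C]
    [Algebra R D] [Algebra R E] (φ : C →ₐ[R] D) (ψ : D →ₐ[R] E) {Z : Over S} (h : ptS σ C ⟶ Z) :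
    ptSMap σ ψ ≫ ptSMap σ φ ≫ h = ptSMap σ (ψ.comp φ) ≫ h := by
  rw [← Category.assoc, ptSMap_comp]

theorem ptSMap_id {C : Type u} [CommRing C] [Algebra R C] : ptSMap σ (AlgHom.id R C) = 𝟙 (ptS σ C) := by
  rw [ptSMap, ptMap_id, CategoryTheory.Functor.map_id]

variable (G : Over S) [GrpObj G]

/-- Points of the transported group. -/
def gR {C : Type u} [CommRing C] [Algebra R C] : (ptS σ C ⟶ G) ≃* (pt R C ⟶ Red.bc σ.inv G) where
  toEquiv := he σ.inv (pt R C) G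
  map_mul' g g' := AlgGrp.Action.homEquiv_mul σ.inv g g'

theorem gR_nat {C C' : Type u} [CommRing C] [CommRing C'] [Algebra R C] [Algebra R C'] (φ : C →ₐ[R] C')
    (g : ptS σ C ⟶ G) : ptMap φ ≫ gR σ G g = gR σ G (ptSMap σ φ ≫ g) :=
  (Adjunction.homEquiv_naturality_left _ _ _).symm

variable {A : Scheme.{u}} {f : A ⟶ S} {X : Over A} (a : AlgGrp.Action (Red.bc f G) X)
  {C₀ : Type u} [CommRing C₀] [Algebra R C₀] (ε : ptS σ C₀ ≅ Over.mk f) (z : C₀ →ₐ[R] R)
  {D : Type u} [CommRing D] [Algebra R D]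

/-- The point of `A` given by a point of the coordinate algebra. -/
abbrev av {C : Type u} [CommRing C] [Algebra R C] (c₀ : C₀ →ₐ[R] C) : ptS σ C ⟶ Over.mk f :=
  ptSMap σ c₀ ≫ ε.hom

theorem ptSMap_av {C C' : Type u} [CommRing C] [CommRing C'] [Algebra R C] [Algebra R C'] (φ : C →ₐ[R] C')
    (c₀ : C₀ →ₐ[R] C) : ptSMap σ φ ≫ av σ ε c₀ = av σ ε (φ.comp c₀) :=
  ptSMap_comp_assoc σ c₀ φ ε.hom

/-- Left inclusion in the twisted cover. -/
abbrev q₁ (C : Type u) [CommRing C] [Algebra R C] : D ⊗[R] C →ₐ[R] (D ⊗[R] D) ⊗[R] C :=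
  Algebra.TensorProduct.map Algebra.TensorProduct.includeLeft (AlgHom.id R C)

/-- Right inclusion in the twisted cover. -/
abbrev q₂ (C : Type u) [CommRing C] [Algebra R C] : D ⊗[R] C →ₐ[R] (D ⊗[R] D) ⊗[R] C :=
  Algebra.TensorProduct.map Algebra.TensorProduct.includeRight (AlgHom.id R C)

theorem q_nat {C C' : Type u} [CommRing C] [CommRing C'] [Algebra R C] [Algebra R C'] (φ : C →ₐ[R] C') :
    (twMap (D ⊗[R] D) φ).comp (q₁ (D := D) C) = (q₁ C').comp (twMap D φ) ∧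
      (twMap (D ⊗[R] D) φ).comp (q₂ (D := D) C) = (q₂ C').comp (twMap D φ) :=
  ⟨Algebra.TensorProduct.ext (AlgHom.ext fun d => by simp) (AlgHom.ext fun c => by simp),
    Algebra.TensorProduct.ext (AlgHom.ext fun d => by simp) (AlgHom.ext fun c => by simp)⟩

/-- The descent datum of the torsor at `0`, for a chosen point. -/
structure Datum where
  /-- a point at `0` over the cover -/
  x₀ : ptS σ D ⟶ (Over.map f).obj X
  hx₀ : x₀ ≫ pr f X = av σ ε ((Algebra.ofId R D).comp z)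
  /-- its cocycle -/
  h : ptS σ (D ⊗[R] D) ⟶ G
  hh : smul a h (ptSMap σ Algebra.TensorProduct.includeLeft ≫ x₀) =
    ptSMap σ Algebra.TensorProduct.includeRight ≫ x₀

variable {G} {a} {ε} {z} (E : Datum σ G a ε z (D := D))

/-- The cocycle over an algebra. -/
abbrev Datum.hC (C : Type u) [CommRing C] [Algebra R C] : ptS σ ((D ⊗[R] D) ⊗[R] C) ⟶ G :=
  ptSMap σ Algebra.TensorProduct.includeLeft ≫ E.h

theorem Datum.hC_nat {C C' : Type u} [CommRing C] [CommRing C'] [Algebra R C] [Algebra R C'] (φ : C →ₐ[R] C') :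
    ptSMap σ (twMap (D ⊗[R] D) φ) ≫ E.hC σ C = E.hC σ C' := by
  rw [ptSMap_comp_assoc]
  congr 2
  exact AlgHom.ext fun d => by simp

/-- A form of the torsor constant along the coordinates. -/
structure Datum.Good {C : Type u} [CommRing C] [Algebra R C] (c₀ : C₀ →ₐ[R] C)
    (y : ptS σ (D ⊗[R] C) ⟶ (Over.map f).obj X) : Prop where
  proj : y ≫ pr f X = av σ ε (Algebra.TensorProduct.includeRight.comp c₀)
  coc : smul a (E.hC σ C) (ptSMap σ (q₁ C) ≫ y) = ptSMap σ (q₂ C) ≫ y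

/-- Descending over an algebra. -/
def Datum.Desc {C : Type u} [CommRing C] [Algebra R C] (c₀ : C₀ →ₐ[R] C) : Prop :=
  ∃ y, E.Good σ c₀ y

theorem Datum.Good.map {C C' : Type u} [CommRing C] [CommRing C'] [Algebra R C] [Algebra R C']
    {c₀ : C₀ →ₐ[R] C} {y} (hy : E.Good σ c₀ y) (φ : C →ₐ[R] C') :
    E.Good σ (φ.comp c₀) (ptSMap σ (twMap D φ) ≫ y) where
  proj := by
    rw [Category.assoc, hy.proj, ptSMap_av]
    exact congrArg (av σ ε) (AlgHom.ext fun c => by simp)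
  coc := by
    rw [← E.hC_nat σ φ, ptSMap_comp_assoc σ (twMap D φ) (q₁ C'), ptSMap_comp_assoc σ (twMap D φ) (q₂ C'),
      ← (q_nat φ).1, ← (q_nat φ).2,
      ← ptSMap_comp_assoc, ← ptSMap_comp_assoc, ← smul_nat, hy.coc]

/-- Automorphisms of the constant form. -/
def Datum.Mem {C : Type u} [CommRing C] [Algebra R C] (g : ptS σ (D ⊗[R] C) ⟶ G) : Prop :=
  (ptSMap σ (q₂ C) ≫ g) * E.hC σ C = E.hC σ C * (ptSMap σ (q₁ C) ≫ g)

theorem Datum.Mem.inv {C : Type u} [CommRing C] [Algebra R C] {g : ptS σ (D ⊗[R] C) ⟶ G}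
    (hg : E.Mem σ g) : E.Mem σ g⁻¹ := by
  unfold Datum.Mem at hg ⊢
  rw [GrpObj.comp_inv, GrpObj.comp_inv, inv_mul_eq_iff_eq_mul, ← _root_.mul_assoc, hg, mul_inv_cancel_right]

theorem Datum.Good.smul {C : Type u} [CommRing C] [Algebra R C] {c₀ : C₀ →ₐ[R] C} {y}
    (hy : E.Good σ c₀ y) {g : ptS σ (D ⊗[R] C) ⟶ G} (hg : E.Mem σ g) :
    E.Good σ c₀ (PushPts.smul a g y) where
  proj := by rw [smul_pr, hy.proj]
  coc := by rw [smul_nat, smul_nat, ← smul_mul, ← hg, smul_mul, hy.coc]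

theorem Datum.mem_of_smul (ha : NonAbH1.IsPseudoTorsorSch a) {C : Type u} [CommRing C] [Algebra R C]
    {c₀ : C₀ →ₐ[R] C} {y y'} (hy : E.Good σ c₀ y) (hy' : E.Good σ c₀ y') {g : ptS σ (D ⊗[R] C) ⟶ G}
    (hg : PushPts.smul a g y = y') : E.Mem σ g := by
  refine smul_cancel ha (x := ptSMap σ (q₁ C) ≫ y) ?_
  rw [smul_mul, smul_mul, hy.coc, ← smul_nat, ← smul_nat, hg, hy'.coc]

theorem Datum.good_const (C : Type u) [CommRing C] [Algebra R C] :
    E.Good σ ((Algebra.ofId R C).comp z) (ptSMap σ (Algebra.TensorProduct.includeLeft : D →ₐ[R] D ⊗[R] C) ≫ E.x₀) where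
  proj := by
    rw [Category.assoc, E.hx₀, ptSMap_av]
    exact congrArg (av σ ε) (AlgHom.ext fun c => by simp)
  coc := by
    have e₁ : (q₁ (R := R) (D := D) C).comp Algebra.TensorProduct.includeLeft =
        (Algebra.TensorProduct.includeLeft : D ⊗[R] D →ₐ[R] (D ⊗[R] D) ⊗[R] C).comp
          Algebra.TensorProduct.includeLeft := AlgHom.ext fun d => by simp
    have e₂ : (q₂ (R := R) (D := D) C).comp Algebra.TensorProduct.includeLeft =
        (Algebra.TensorProduct.includeLeft : D ⊗[R] D →ₐ[R] (D ⊗[R] D) ⊗[R] C).comp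
          Algebra.TensorProduct.includeRight := AlgHom.ext fun d => by simp
    rw [ptSMap_comp_assoc, ptSMap_comp_assoc, e₁, e₂, ← ptSMap_comp_assoc, ← ptSMap_comp_assoc,
      ← smul_nat, E.hh]

/-- A form can be normalised at `0`. -/
theorem Datum.exists_normalised (ha : NonAbH1.IsPseudoTorsorSch a) {C L : Type u} [CommRing C] [CommRing L]
    [Algebra R C] [Algebra R L] {c₀ : C₀ →ₐ[R] C} {y} (hy : E.Good σ c₀ y) (ρ : C →ₐ[R] L) (jn : L →ₐ[R] C)
    (hρc : ρ.comp c₀ = (Algebra.ofId R L).comp z) (hρj : ρ.comp jn = AlgHom.id R L) :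
    ∃ y', E.Good σ c₀ y' ∧
      ptSMap σ (twMap D ρ) ≫ y' = ptSMap σ Algebra.TensorProduct.includeLeft ≫ E.x₀ := by
  have hy₀ : E.Good σ ((Algebra.ofId R L).comp z) (ptSMap σ (twMap D ρ) ≫ y) := hρc ▸ hy.map σ E ρ
  have hx := E.good_const σ L
  obtain ⟨g, hg⟩ := exists_smul_eq ha (hx.proj.trans hy₀.proj.symm)
  have hmem := E.mem_of_smul σ ha hx hy₀ hg
  have hmem' : E.Mem σ (ptSMap σ (twMap D jn) ≫ g) := by
    unfold Datum.Mem at hmem ⊢
    rw [ptSMap_comp_assoc, ptSMap_comp_assoc, ← (q_nat jn).1, ← (q_nat jn).2, ← E.hC_nat σ jn,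
      ← ptSMap_comp_assoc, ← ptSMap_comp_assoc, ← MonObj.comp_mul, hmem, MonObj.comp_mul]
  refine ⟨_, hy.smul σ E (hmem'.inv σ E), ?_⟩
  have hid : (twMap D ρ).comp (twMap D jn) = AlgHom.id R (D ⊗[R] L) :=
    Algebra.TensorProduct.ext (AlgHom.ext fun d => by simp) (AlgHom.ext fun l => by
      simpa using congrArg (fun e : L →ₐ[R] L => (1 : D) ⊗ₜ[R] e l) hρj)
  rw [smul_nat, GrpObj.comp_inv, ptSMap_comp_assoc, hid, ptSMap_id, Category.id_comp, ← hg, ← smul_mul,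
    inv_mul_cancel, PushPts.smul_one]

variable [LocallyOfFinitePresentation G.hom]

/-- Automorphisms as a functor to which rescaled points lift. -/
def Datum.autFun : PtFun R :=
  haveI : LocallyOfFinitePresentation (Red.bc σ.inv G).hom :=
    inferInstanceAs (LocallyOfFinitePresentation (pullback.snd G.hom σ.inv))
  eqFun (twFun (Red.bc σ.inv G) D) (twFun (Red.bc σ.inv G) (D ⊗[R] D))
    (fun C _ _ => MonoidHom.mk' (fun g => ptMap (q₂ C) ≫ g) fun g g' => MonObj.comp_mul _ _ _)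
    (fun C _ _ => (MulAut.conj (gR σ G (E.hC σ C))).toMonoidHom.comp
      (MonoidHom.mk' (fun g : pt R (D ⊗[R] C) ⟶ Red.bc σ.inv G => ptMap (q₁ C) ≫ g)
        fun g g' => MonObj.comp_mul _ _ _))
    (fun {C C'} _ _ _ _ φ x => by
      show ptMap (twMap (D ⊗[R] D) φ) ≫ ptMap (q₂ C) ≫ x = ptMap (q₂ C') ≫ ptMap (twMap D φ) ≫ x
      rw [ptMap_comp_assoc, ptMap_comp_assoc, (q_nat φ).2])
    (fun {C C'} _ _ _ _ φ x => by
      show ptMap (twMap (D ⊗[R] D) φ) ≫ (gR σ G (E.hC σ C) * (ptMap (q₁ C) ≫ x) * (gR σ G (E.hC σ C))⁻¹) =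
        gR σ G (E.hC σ C') * (ptMap (q₁ C') ≫ ptMap (twMap D φ) ≫ x) * (gR σ G (E.hC σ C'))⁻¹
      rw [MonObj.comp_mul, MonObj.comp_mul, GrpObj.comp_inv, ptMap_comp_assoc, ptMap_comp_assoc,
        (q_nat φ).1, gR_nat, E.hC_nat])
    (twFun_separated (D ⊗[R] D))

theorem Datum.exists_autFun {C : Type u} [CommRing C] [Algebra R C] {g : ptS σ (D ⊗[R] C) ⟶ G}
    (hg : E.Mem σ g) : ∃ θ : (E.autFun σ).obj C, θ.1 = gR σ G g := by
  refine ⟨⟨gR σ G g, ?_⟩, rfl⟩
  show ptMap (q₂ C) ≫ gR σ G g = gR σ G (E.hC σ C) * (ptMap (q₁ C) ≫ gR σ G g) * (gR σ G (E.hC σ C))⁻¹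
  rw [gR_nat, gR_nat, eq_mul_inv_iff_mul_eq, ← map_mul, ← map_mul]
  exact congrArg (gR σ G) hg

/-- The point underlying an automorphism. -/
def Datum.pnt {C : Type u} [CommRing C] [Algebra R C] (θ : (E.autFun σ).obj C) : ptS σ (D ⊗[R] C) ⟶ G :=
  (gR σ G).symm θ.1

theorem Datum.mem_pnt {C : Type u} [CommRing C] [Algebra R C] (θ : (E.autFun σ).obj C) :
    E.Mem σ (E.pnt σ θ) := by
  have h : ptMap (q₂ C) ≫ θ.1 = gR σ G (E.hC σ C) * (ptMap (q₁ C) ≫ θ.1) * (gR σ G (E.hC σ C))⁻¹ := θ.2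
  rw [eq_mul_inv_iff_mul_eq, ← (gR σ G).apply_symm_apply θ.1, gR_nat, gR_nat, ← map_mul, ← map_mul] at h
  exact (gR σ G).injective h

theorem Datum.pnt_map {C C' : Type u} [CommRing C] [CommRing C'] [Algebra R C] [Algebra R C']
    (φ : C →ₐ[R] C') (θ : (E.autFun σ).obj C) :
    E.pnt σ ((E.autFun σ).map φ θ) = ptSMap σ (twMap D φ) ≫ E.pnt σ θ := by
  apply (gR σ G).injective
  rw [← gR_nat, Datum.pnt, Datum.pnt, MulEquiv.apply_symm_apply, MulEquiv.apply_symm_apply]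
  rfl

theorem Datum.pnt_mul {C : Type u} [CommRing C] [Algebra R C] (θ θ' : (E.autFun σ).obj C) :
    E.pnt σ (θ * θ') = E.pnt σ θ * E.pnt σ θ' :=
  map_mul (gR σ G).symm _ _

theorem Datum.pnt_injective {C : Type u} [CommRing C] [Algebra R C] :
    Function.Injective (E.pnt σ (C := C)) :=
  fun _ _ h => Subtype.ext ((gR σ G).symm.injective h)

theorem Datum.pnt_one {C : Type u} [CommRing C] [Algebra R C] : E.pnt σ (1 : (E.autFun σ).obj C) = 1 :=
  map_one (gR σ G).symm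

/-- Forms which agree on the overlap glue. -/
theorem Datum.desc_of_agree {Q : Type u} [CommRing Q] [Algebra R Q] (c₀ : C₀ →ₐ[R] Q) {r r' : R}
    (hrr : Ideal.span ({algebraMap R Q r, algebraMap R Q r'} : Set Q) = ⊤)
    {C C' B : Type u} [CommRing C] [CommRing C'] [CommRing B] [Algebra R C] [Algebra R C']
    [Algebra R B] [Algebra Q C] [Algebra Q C'] [Algebra Q B] [IsScalarTower R Q C]
    [IsScalarTower R Q C'] [IsLocalization.Away (algebraMap R Q r) C]
    [IsLocalization.Away (algebraMap R Q r') C']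
    [IsLocalization.Away (algebraMap R Q r * algebraMap R Q r') B]
    [Algebra C B] [Algebra C' B] [IsScalarTower R C B] [IsScalarTower R C' B] [IsScalarTower Q C B]
    [IsScalarTower Q C' B] {w₁ : ptS σ (D ⊗[R] C) ⟶ (Over.map f).obj X}
    {w₂ : ptS σ (D ⊗[R] C') ⟶ (Over.map f).obj X}
    (hw₁ : E.Good σ ((IsScalarTower.toAlgHom R Q C).comp c₀) w₁)
    (hw₂ : E.Good σ ((IsScalarTower.toAlgHom R Q C').comp c₀) w₂)
    (hagree : ptSMap σ (twMap D (IsScalarTower.toAlgHom R C B)) ≫ w₁ =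
      ptSMap σ (twMap D (IsScalarTower.toAlgHom R C' B)) ≫ w₂) :
    E.Desc σ c₀ := by
  let iC : Q →ₐ[R] C := IsScalarTower.toAlgHom R Q C
  let iC' : Q →ₐ[R] C' := IsScalarTower.toAlgHom R Q C'
  obtain ⟨v, hv₁, hv₂⟩ := (glue_tw D (C₀ := Q) (C := C) (C' := C') (B := B) hrr X.left).2 w₁.left w₂.left
    (congrArg CommaMorphism.left hagree)
  let av₀ := (av σ ε ((Algebra.TensorProduct.includeRight : Q →ₐ[R] D ⊗[R] Q).comp c₀))
  have hA : ∀ {C₁ : Type u} [CommRing C₁] [Algebra R C₁] (i₁ : Q →ₐ[R] C₁)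
      (w : ptS σ (D ⊗[R] C₁) ⟶ (Over.map f).obj X) (_ : E.Good σ (i₁.comp c₀) w)
      (_ : Sp (twMap D i₁).toRingHom ≫ v = w.left),
      Sp (twMap D i₁).toRingHom ≫ v ≫ X.hom = Sp (twMap D i₁).toRingHom ≫ av₀.left := by
    intro C₁ _ _ i₁ w hw hwl
    rw [← Category.assoc, hwl]
    refine (congrArg CommaMorphism.left hw.proj).trans ?_
    refine Eq.trans ?_ (congrArg CommaMorphism.left (ptSMap_av σ ε (twMap D i₁) _).symm)
    exact congrArg (fun φ => (av σ ε φ).left) (AlgHom.ext fun c => by simp)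
  have hvA : v ≫ X.hom = av₀.left :=
    (glue_tw D (C₀ := Q) (C := C) (C' := C') (B := B) hrr A).1 _ _ (hA iC w₁ hw₁ hv₁) (hA iC' w₂ hw₂ hv₂)
  let y₀ : ptS σ (D ⊗[R] Q) ⟶ (Over.map f).obj X := Over.homMk v (by
    show v ≫ X.hom ≫ f = _
    rw [← Category.assoc, hvA]
    exact Over.w av₀)
  have r₁ : ptSMap σ (twMap D iC) ≫ y₀ = w₁ := Over.OverMorphism.ext hv₁
  have r₂ : ptSMap σ (twMap D iC') ≫ y₀ = w₂ := Over.OverMorphism.ext hv₂
  refine ⟨y₀, Over.OverMorphism.ext hvA, ?_⟩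
  have key : ∀ {C₁ : Type u} [CommRing C₁] [Algebra R C₁] (i₁ : Q →ₐ[R] C₁)
      (w : ptS σ (D ⊗[R] C₁) ⟶ (Over.map f).obj X) (_ : ptSMap σ (twMap D i₁) ≫ y₀ = w)
      (_ : E.Good σ (i₁.comp c₀) w),
      ptSMap σ (twMap (D ⊗[R] D) i₁) ≫ PushPts.smul a (E.hC σ Q) (ptSMap σ (q₁ Q) ≫ y₀) =
        ptSMap σ (twMap (D ⊗[R] D) i₁) ≫ ptSMap σ (q₂ Q) ≫ y₀ := by
    intro C₁ _ _ i₁ w hw hgood
    rw [smul_nat, E.hC_nat, ptSMap_comp_assoc σ (q₁ Q), ptSMap_comp_assoc σ (q₂ Q), (q_nat i₁).1, (q_nat i₁).2,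
      ← ptSMap_comp_assoc, ← ptSMap_comp_assoc, hw, hgood.coc]
  exact Over.OverMorphism.ext ((glue_tw (D ⊗[R] D) (C₀ := Q) (C := C) (C' := C') (B := B) hrr X.left).1 _ _
    (congrArg CommaMorphism.left (key iC w₁ r₁ hw₁)) (congrArg CommaMorphism.left (key iC' w₂ r₂ hw₂)))

/-- Descending away from an element of the base. -/
def Datum.DescAway (r : R) : Prop :=
  E.Desc σ (IsScalarTower.toAlgHom R C₀ (Localization.Away (algebraMap R C₀ r)))

theorem Datum.DescAway.desc {r : R} (h : E.DescAway σ r) {C : Type u} [CommRing C] [Algebra R C]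
    (c₀ : C₀ →ₐ[R] C) (hr : IsUnit (algebraMap R C r)) : E.Desc σ c₀ := by
  obtain ⟨y, hy⟩ := h
  have hu : ∀ p : Submonoid.powers (algebraMap R C₀ r), IsUnit (c₀ p) := by
    rintro ⟨_, k, rfl⟩; rw [map_pow, AlgHom.commutes]; exact hr.pow k
  let φ : Localization.Away (algebraMap R C₀ r) →ₐ[R] C := IsLocalization.liftAlgHom hu
  have e : φ.comp (IsScalarTower.toAlgHom R C₀ _) = c₀ := AlgHom.ext fun c => IsLocalization.lift_eq _ c
  exact e ▸ ⟨_, hy.map σ E φ⟩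

theorem Datum.DescAway.mul {r : R} (h : E.DescAway σ r) (a' : R) : E.DescAway σ (a' * r) := by
  refine h.desc σ E _ ?_
  have := IsLocalization.Away.algebraMap_isUnit (S := Localization.Away (algebraMap R C₀ (a' * r)))
    (algebraMap R C₀ (a' * r))
  rw [← IsScalarTower.algebraMap_apply,
    map_mul (algebraMap R (Localization.Away (algebraMap R C₀ (a' * r)))) a' r] at this
  exact isUnit_of_mul_isUnit_right this

set_option maxHeartbeats 1600000 in
/-- Quillen's patching. -/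
theorem Datum.descAway_of_mem_span (ha : NonAbH1.IsPseudoTorsorSch a)
    (sc : C₀ →ₐ[R] Polynomial C₀) (hsc₀ : (ev0 R C₀).comp sc = (Algebra.ofId R C₀).comp z)
    (hsc₁ : ∀ c, (sc c).eval 1 = c) {r r' t : R} (ht : t ∈ Ideal.span ({r, r'} : Set R))
    (hC : E.DescAway σ r) (hC' : E.DescAway σ r') : E.DescAway σ t := by
  obtain ⟨y, hy⟩ := hC
  obtain ⟨y', hy'⟩ := hC'
  let C₁ := Localization.Away (algebraMap R C₀ r)
  let C₁' := Localization.Away (algebraMap R C₀ r')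
  let Q := Localization.Away (algebraMap R C₀ t)
  let C := Localization.Away (algebraMap R Q r)
  let C' := Localization.Away (algebraMap R Q r')
  let B := Localization.Away (algebraMap R Q r * algebraMap R Q r')
  have hrr : Ideal.span ({algebraMap R Q r, algebraMap R Q r'} : Set Q) = ⊤ := by
    refine Ideal.eq_top_of_isUnit_mem _ (?_ : algebraMap R Q t ∈ _) ?_
    · have := Ideal.mem_map_of_mem (algebraMap R Q) ht
      rwa [Ideal.map_span, Set.image_pair] at this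
    · rw [IsScalarTower.algebraMap_apply R C₀ Q]
      exact IsLocalization.Away.algebraMap_isUnit _
  -- `B` is a localisation of `C₀`
  let p : R := t * (r * r')
  haveI : IsLocalization.Away (algebraMap R C₀ p) B := by
    haveI : IsLocalization.Away (algebraMap C₀ Q (algebraMap R C₀ (r * r'))) B := by
      rw [← IsScalarTower.algebraMap_apply, map_mul]; infer_instance
    rw [map_mul]
    exact IsLocalization.Away.mul' Q B _ _
  -- maps between the localisations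
  have hB : IsUnit (algebraMap R B r) ∧ IsUnit (algebraMap R B r') := by
    have h := IsLocalization.Away.algebraMap_isUnit (S := B) (algebraMap R Q r * algebraMap R Q r')
    rw [map_mul, ← IsScalarTower.algebraMap_apply, ← IsScalarTower.algebraMap_apply] at h
    exact ⟨isUnit_of_mul_isUnit_left h, isUnit_of_mul_isUnit_right h⟩
  let qB : Q →ₐ[R] B := IsScalarTower.toAlgHom R Q B
  let cB : C₀ →ₐ[R] B := IsScalarTower.toAlgHom R C₀ B
  have hu : ∀ x : Submonoid.powers (algebraMap R Q r), IsUnit (qB x) := by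
    rintro ⟨_, k, rfl⟩; rw [map_pow, AlgHom.commutes]; exact hB.1.pow k
  have hu' : ∀ x : Submonoid.powers (algebraMap R Q r'), IsUnit (qB x) := by
    rintro ⟨_, k, rfl⟩; rw [map_pow, AlgHom.commutes]; exact hB.2.pow k
  letI := (IsLocalization.liftAlgHom (S := C) hu).toRingHom.toAlgebra
  letI := (IsLocalization.liftAlgHom (S := C') hu').toRingHom.toAlgebra
  haveI : IsScalarTower R C B :=
    IsScalarTower.of_algebraMap_eq fun x => ((IsLocalization.liftAlgHom (S := C) hu).commutes x).symm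
  haveI : IsScalarTower R C' B :=
    IsScalarTower.of_algebraMap_eq fun x => ((IsLocalization.liftAlgHom (S := C') hu').commutes x).symm
  haveI : IsScalarTower Q C B := IsScalarTower.of_algebraMap_eq (R := Q) (S := C) (A := B) fun x => (IsLocalization.lift_eq _ x).symm
  haveI : IsScalarTower Q C' B := IsScalarTower.of_algebraMap_eq (R := Q) (S := C') (A := B) fun x => (IsLocalization.lift_eq _ x).symm
  have hCr : IsUnit (algebraMap R C r) ∧ IsUnit (algebraMap R C' r') :=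
    ⟨(congrArg IsUnit (IsScalarTower.algebraMap_apply R Q C r)).mpr
        (IsLocalization.Away.algebraMap_isUnit (algebraMap R Q r)),
      (congrArg IsUnit (IsScalarTower.algebraMap_apply R Q C' r')).mpr
        (IsLocalization.Away.algebraMap_isUnit (algebraMap R Q r'))⟩
  have hu₁ : ∀ x : Submonoid.powers (algebraMap R C₀ r), IsUnit (IsScalarTower.toAlgHom R C₀ C x) := by
    rintro ⟨_, k, rfl⟩; rw [map_pow, AlgHom.commutes]; exact hCr.1.pow k
  have hu₁' : ∀ x : Submonoid.powers (algebraMap R C₀ r'), IsUnit (IsScalarTower.toAlgHom R C₀ C' x) := by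
    rintro ⟨_, k, rfl⟩; rw [map_pow, AlgHom.commutes]; exact hCr.2.pow k
  let l : C₁ →ₐ[R] C := IsLocalization.liftAlgHom (S := C₁) hu₁
  let l' : C₁' →ₐ[R] C' := IsLocalization.liftAlgHom (S := C₁') hu₁'
  have hl : l.comp (IsScalarTower.toAlgHom R C₀ C₁) =
      (IsScalarTower.toAlgHom R Q C).comp (IsScalarTower.toAlgHom R C₀ Q) :=
    AlgHom.ext fun c => (IsLocalization.lift_eq _ c).trans (IsScalarTower.algebraMap_apply C₀ Q C c)
  have hl' : l'.comp (IsScalarTower.toAlgHom R C₀ C₁') =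
      (IsScalarTower.toAlgHom R Q C').comp (IsScalarTower.toAlgHom R C₀ Q) :=
    AlgHom.ext fun c => (IsLocalization.lift_eq _ c).trans (IsScalarTower.algebraMap_apply C₀ Q C' c)
  let m : C₁ →ₐ[R] B := (IsScalarTower.toAlgHom R C B).comp l
  let m' : C₁' →ₐ[R] B := (IsScalarTower.toAlgHom R C' B).comp l'
  have hm : m.comp (IsScalarTower.toAlgHom R C₀ C₁) = cB := by
    rw [AlgHom.comp_assoc, hl]
    exact AlgHom.ext fun c =>
      ((IsScalarTower.algebraMap_apply Q C B _).symm).trans (IsScalarTower.algebraMap_apply C₀ Q B c).symm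
  have hm' : m'.comp (IsScalarTower.toAlgHom R C₀ C₁') = cB := by
    rw [AlgHom.comp_assoc, hl']
    exact AlgHom.ext fun c =>
      ((IsScalarTower.algebraMap_apply Q C' B _).symm).trans (IsScalarTower.algebraMap_apply C₀ Q B c).symm
  -- normalise at zero
  let L := Localization.Away r
  let L' := Localization.Away r'
  let K := Localization.Away p
  obtain ⟨ρ, jn, hρc, hρj⟩ := exists_retr z r (C := C₁) (L := L)
  obtain ⟨ρ', jn', hρc', hρj'⟩ := exists_retr z r' (C := C₁') (L := L')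
  obtain ⟨ρB, jB, hρcB, -⟩ := exists_retr z p (C := B) (L := K)
  obtain ⟨y₁, hy₁, hn₁⟩ := E.exists_normalised σ ha hy ρ jn hρc hρj
  obtain ⟨y₂, hy₂, hn₂⟩ := E.exists_normalised σ ha hy' ρ' jn' hρc' hρj'
  let b₁ := ptSMap σ (twMap D m) ≫ y₁
  let b₂ := ptSMap σ (twMap D m') ≫ y₂
  have hb₁ : E.Good σ cB b₁ := hm ▸ hy₁.map σ E m
  have hb₂ : E.Good σ cB b₂ := hm' ▸ hy₂.map σ E m'
  obtain ⟨g, hg⟩ := exists_smul_eq ha (hb₂.proj.trans hb₁.proj.symm)
  have hmem := E.mem_of_smul σ ha hb₂ hb₁ hg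
  -- the transition is trivial at zero
  have hn : ∀ {C₂ L₁ : Type u} [CommRing C₂] [CommRing L₁] [Algebra R C₂] [Algebra R L₁]
      (κ : L₁ →ₐ[R] K) (ρ₁ : C₂ →ₐ[R] L₁) (m₁ : C₂ →ₐ[R] B) (_ : ρB.comp m₁ = κ.comp ρ₁)
      (y₀ : ptS σ (D ⊗[R] C₂) ⟶ (Over.map f).obj X)
      (_ : ptSMap σ (twMap D ρ₁) ≫ y₀ = ptSMap σ Algebra.TensorProduct.includeLeft ≫ E.x₀),
      ptSMap σ (twMap D ρB) ≫ ptSMap σ (twMap D m₁) ≫ y₀ =
        ptSMap σ Algebra.TensorProduct.includeLeft ≫ E.x₀ := by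
    intro C₂ L₁ _ _ _ _ κ ρ₁ m₁ e y₀ hy₀
    have e2 : (twMap D ρB).comp (twMap D m₁) = (twMap D κ).comp (twMap D ρ₁) :=
      Algebra.TensorProduct.ext (AlgHom.ext fun d => by simp) (AlgHom.ext fun c => by
        simpa using congrArg (fun φ : C₂ →ₐ[R] K => (1 : D) ⊗ₜ[R] φ c) e)
    rw [ptSMap_comp_assoc, e2, ← ptSMap_comp_assoc, hy₀, ptSMap_comp_assoc]
    exact congrArg (fun φ => ptSMap σ φ ≫ E.x₀) (AlgHom.ext fun d => by simp)
  have hK : IsUnit (algebraMap R K r) ∧ IsUnit (algebraMap R K r') := by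
    have h := IsLocalization.Away.algebraMap_isUnit (S := K) p
    rw [map_mul, map_mul] at h
    exact ⟨isUnit_of_mul_isUnit_left (isUnit_of_mul_isUnit_right h),
      isUnit_of_mul_isUnit_right (isUnit_of_mul_isUnit_right h)⟩
  obtain ⟨κ, hκ⟩ := retr_comp z (s := r) (L := L) hρc hρcB hm hK.1
  obtain ⟨κ', hκ'⟩ := retr_comp z (s := r') (L := L') hρc' hρcB hm' hK.2
  have hg0 : ptSMap σ (twMap D ρB) ≫ g = 1 := by
    refine smul_cancel ha (x := ptSMap σ (twMap D ρB) ≫ b₂) ?_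
    rw [← smul_nat, hg, PushPts.smul_one]
    exact (hn κ ρ m hκ y₁ hn₁).trans (hn κ' ρ' m' hκ' y₂ hn₂).symm
  -- split
  obtain ⟨θ, hθ⟩ := E.exists_autFun σ hmem
  have hθg : E.pnt σ θ = g := (congrArg (gR σ G).symm hθ).trans ((gR σ G).symm_apply_apply g)
  have hθ0 : (E.autFun σ).map ρB θ = 1 := E.pnt_injective σ (by rw [E.pnt_map, E.pnt_one, hθg, hg0])
  obtain ⟨θ₁, θ₂, hsplit⟩ :=
    PtFun.split z (E.autFun σ) sc hsc₀ hsc₁ hrr (p := p) (C := C) (C' := C') ρB jB hρcB θ hθ0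
  have hw : E.Good σ _ (ptSMap σ (twMap D l) ≫ y₁) := hl ▸ hy₁.map σ E l
  have hw' : E.Good σ _ (ptSMap σ (twMap D l') ≫ y₂) := hl' ▸ hy₂.map σ E l'
  refine E.desc_of_agree σ _ hrr (B := B) (hw.smul σ E ((E.mem_pnt σ θ₁).inv σ E))
    (hw'.smul σ E (E.mem_pnt σ θ₂)) ?_
  have em : ∀ {C₂ C₃ : Type u} [CommRing C₂] [CommRing C₃] [Algebra R C₂] [Algebra R C₃]
      (φ : C₂ →ₐ[R] C₃) (ψ : C₃ →ₐ[R] B) (w : ptS σ (D ⊗[R] C₂) ⟶ (Over.map f).obj X),
      ptSMap σ (twMap D ψ) ≫ ptSMap σ (twMap D φ) ≫ w = ptSMap σ (twMap D (ψ.comp φ)) ≫ w := by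
    intro C₂ C₃ _ _ _ _ φ ψ w
    rw [ptSMap_comp_assoc]
    exact congrArg (fun χ => ptSMap σ χ ≫ w)
      (Algebra.TensorProduct.ext (AlgHom.ext fun d => by simp) (AlgHom.ext fun c => by simp))
  rw [smul_nat, smul_nat, GrpObj.comp_inv, ← E.pnt_map, ← E.pnt_map, em, em]
  show PushPts.smul a _ b₁ = PushPts.smul a _ b₂
  rw [← hg, ← hθg, hsplit, E.pnt_mul, ← smul_mul, inv_mul_cancel_left]

end Groth.LoopPatch.Patch
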