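import Mathlib
import Groth.Agent.TorsProper.PushPts
import Groth.Agent.TorsProper.CocycleIso

/-!
Moving points along an equivariant isomorphism of restricted torsors, and pushing points forward.
-/

set_option autoImplicit false
set_option backward.isDefEq.respectTransparency false

universe u

open CategoryTheory CategoryTheory.Limits MonoidalCategory CartesianMonoidalCategory MonObj GrpObj
open AlgebraicGeometry
open Groth.TorsProper Groth.TorsProper.PushPts

noncomputable section

attribute [local instance 10000] CategoryTheory.Hom.group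
set_option synthInstance.maxHeartbeats 400000

namespace Groth.LoopPatch

variable {S : Scheme.{u}} {G : Over S} [GrpObj G]

section Transport

variable {A₁ A₂ B : Scheme.{u}} {f₁ : A₁ ⟶ S} {f₂ : A₂ ⟶ S} {d : B ⟶ S}
  {X₁ : Over A₁} {X₂ : Over A₂} (a₁ : AlgGrp.Action (Red.bc f₁ G) X₁) (a₂ : AlgGrp.Action (Red.bc f₂ G) X₂)
  {k₁ : B ⟶ A₁} {k₂ : B ⟶ A₂} (h₁ : k₁ ≫ f₁ = d) (h₂ : k₂ ≫ f₂ = d)
  (e : NonAbH1.EquivIso ((a₁.bc k₁).restrict (ActBC.bcCompIso k₁ f₁ G h₁).inv)
    ((a₂.bc k₂).restrict (ActBC.bcCompIso k₂ f₂ G h₂).inv))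
  {W : Over S}

/-- The identity, from the object over the base. -/
abbrev dnB (b : W ⟶ Over.mk d) : (Over.map d).obj (Over.mk b.left) ⟶ W :=
  Over.homMk (𝟙 W.left) (by
    show 𝟙 W.left ≫ W.hom = b.left ≫ d
    rw [Category.id_comp]; exact (Over.w b).symm)

/-- The identity, to the object over the base. -/
abbrev upB (b : W ⟶ Over.mk d) : W ⟶ (Over.map d).obj (Over.mk b.left) :=
  Over.homMk (𝟙 W.left) (by
    show 𝟙 W.left ≫ b.left ≫ d = W.hom
    rw [Category.id_comp]; exact Over.w b)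

theorem upB_dnB (b : W ⟶ Over.mk d) : upB b ≫ dnB b = 𝟙 W :=
  Over.OverMorphism.ext (Category.id_comp _)

/-- A point lifted to the fibre product. -/
def liftB (b : W ⟶ Over.mk d) (p : W ⟶ (Over.map f₁).obj X₁) (hp : p.left ≫ X₁.hom = b.left ≫ k₁) :
    Over.mk b.left ⟶ Red.bc k₁ X₁ :=
  Over.homMk (pullback.lift p.left b.left hp) (pullback.lift_snd _ _ _)

theorem pushPoint_liftB (b : W ⟶ Over.mk d) (p : W ⟶ (Over.map f₁).obj X₁)
    (hp : p.left ≫ X₁.hom = b.left ≫ k₁) : pushPoint k₁ h₁ (liftB b p hp) = dnB b ≫ p :=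
  Over.OverMorphism.ext ((pullback.lift_fst _ _ _).trans (Category.id_comp _).symm)

variable {a₁ a₂}

/-- A point moved along the isomorphism. -/
def move (b : W ⟶ Over.mk d) (p : W ⟶ (Over.map f₁).obj X₁) (hp : p.left ≫ X₁.hom = b.left ≫ k₁) :
    W ⟶ (Over.map f₂).obj X₂ :=
  upB b ≫ pushPoint k₂ h₂ (liftB b p hp ≫ e.iso.hom)

theorem move_left (b : W ⟶ Over.mk d) (p : W ⟶ (Over.map f₁).obj X₁)
    (hp : p.left ≫ X₁.hom = b.left ≫ k₁) :
    (move h₁ h₂ e b p hp).left = (liftB b p hp).left ≫ e.iso.hom.left ≫ pullback.fst X₂.hom k₂ :=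
  (Category.id_comp _).trans (Category.assoc _ _ _)

theorem move_hom (b : W ⟶ Over.mk d) (p : W ⟶ (Over.map f₁).obj X₁)
    (hp : p.left ≫ X₁.hom = b.left ≫ k₁) : (move h₁ h₂ e b p hp).left ≫ X₂.hom = b.left ≫ k₂ := by
  refine (congrArg (· ≫ X₂.hom) (Category.id_comp _)).trans ?_
  exact pushPoint_pr_left k₂ h₂ (liftB b p hp ≫ e.iso.hom)

theorem move_congr {b b' : W ⟶ Over.mk d} {p p' : W ⟶ (Over.map f₁).obj X₁}
    (hp : p.left ≫ X₁.hom = b.left ≫ k₁) (hp' : p'.left ≫ X₁.hom = b'.left ≫ k₁) (hb : b = b')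
    (he : p = p') : move h₁ h₂ e b p hp = move h₁ h₂ e b' p' hp' := by
  subst hb he; rfl

theorem move_nat {W' : Over S} (k : W' ⟶ W) (b : W ⟶ Over.mk d) (p : W ⟶ (Over.map f₁).obj X₁)
    (hp : p.left ≫ X₁.hom = b.left ≫ k₁) :
    k ≫ move h₁ h₂ e b p hp = move h₁ h₂ e (k ≫ b) (k ≫ p) (by
      show (k.left ≫ p.left) ≫ X₁.hom = (k.left ≫ b.left) ≫ k₁
      rw [Category.assoc, hp, Category.assoc]) := by
  apply Over.OverMorphism.ext
  rw [Over.comp_left, move_left, move_left, ← Category.assoc]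
  congr 1
  show k.left ≫ pullback.lift p.left b.left hp = pullback.lift (k.left ≫ p.left) (k.left ≫ b.left) _
  apply pullback.hom_ext <;> simp

theorem move_smul (b : W ⟶ Over.mk d) (g : W ⟶ G) (p : W ⟶ (Over.map f₁).obj X₁)
    (hp : p.left ≫ X₁.hom = b.left ≫ k₁) :
    move h₁ h₂ e b (PushPts.smul a₁ g p) (by
        rw [show (PushPts.smul a₁ g p).left ≫ X₁.hom = p.left ≫ X₁.hom from
          congrArg CommaMorphism.left (smul_pr a₁ g p), hp]) =
      PushPts.smul a₂ g (move h₁ h₂ e b p hp) := by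
  let g' := he d (Over.mk b.left) G (dnB b ≫ g)
  have hg : (he d (Over.mk b.left) G).symm g' = dnB b ≫ g := Equiv.symm_apply_apply _ _
  have e₁ : liftB b (PushPts.smul a₁ g p) (by
        rw [show (PushPts.smul a₁ g p).left ≫ X₁.hom = p.left ≫ X₁.hom from
          congrArg CommaMorphism.left (smul_pr a₁ g p), hp]) =
      lift g' (liftB b p hp) ≫ ((a₁.bc k₁).restrict (ActBC.bcCompIso k₁ f₁ G h₁).inv).act := by
    refine pushPoint_injective k₁ h₁ ?_
    rw [pushPoint_act, pushPoint_liftB, pushPoint_liftB, hg, smul_nat]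
  rw [move, e₁, Category.assoc, e.comm, lift_whiskerLeft_assoc, pushPoint_act, hg, smul_nat, ← Category.assoc,
    upB_dnB, Category.id_comp]
  rfl

end Transport

section PushMap

variable {A : Scheme.{u}} {f : A ⟶ S} {X : Over A} (a : AlgGrp.Action (Red.bc f G) X)
  {U : Scheme.{u}} {j : U ⟶ S} {k : U ⟶ A} (hk : k ≫ f = j)

variable (X) in
/-- The projection of the base change, over the base. -/
def pushMap : (Over.map j).obj (Red.bc k X) ⟶ (Over.map f).obj X :=
  pushPoint k hk (𝟙 (Red.bc k X))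

theorem pushMap_left : (pushMap X hk).left = pullback.fst X.hom k :=
  Category.id_comp _

theorem smul_pushMap {W : Over S} (g : W ⟶ G) (p : W ⟶ (Over.map j).obj (Red.bc k X)) :
    PushPts.smul ((a.bc k).restrict (ActBC.bcCompIso k f G hk).inv) g p ≫ pushMap X hk =
      PushPts.smul a g (p ≫ pushMap X hk) := by
  have hh : pushPoint k hk (hat p) = down p ≫ p ≫ pushMap X hk :=
    Over.OverMorphism.ext (by
      show p.left ≫ pullback.fst X.hom k = 𝟙 W.left ≫ p.left ≫ (pushMap X hk).left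
      rw [pushMap_left, Category.id_comp])
  have h := pushPoint_act a k hk (he j (wA p) G (down p ≫ g)) (hat p)
  rw [Equiv.symm_apply_apply, hh, ← smul_nat] at h
  have h2 := congrArg (up p ≫ ·) h
  simp only [← Category.assoc (up p) (down p), up_down, Category.id_comp] at h2
  rw [← h2]
  apply Over.OverMorphism.ext
  simp only [pushPoint, PushPts.smul, Over.homMk_left, Over.comp_left, pushMap_left, Category.assoc]
  exact (Category.id_comp _).symm

/-- Points of `X` as points over the base. -/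
theorem map_act {Z : Over A} (g : Z ⟶ Red.bc f G) (x : Z ⟶ X) :
    (Over.map f).map (lift g x ≫ a.act) = PushPts.smul a ((he f Z G).symm g) ((Over.map f).map x) := by
  apply Over.OverMorphism.ext
  have h := smul_eq a (W := (Over.map f).obj Z) (Y := Z) (𝟙 _) ((he f Z G).symm g) ((Over.map f).map x) x
    (Category.id_comp _)
  rw [Category.id_comp ((he f Z G).symm g), Equiv.apply_symm_apply] at h
  exact ((Category.id_comp _).symm.trans h).symm

end PushMap

/-- Restricting a torsor along an isomorphism of groups. -/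
theorem isTorsorFor_restrict {B : Scheme.{u}} {H K : Over B} [GrpObj H] [GrpObj K] {X : Over B}
    (φ : H ⟶ K) [IsMonHom φ] [IsIso φ] {a : AlgGrp.Action K X} {J : Precoverage Scheme.{u}}
    (h : NonAbH1.IsTorsorFor J a) : NonAbH1.IsTorsorFor J (a.restrict φ) := by
  refine ⟨?_, h.2⟩
  have e : lift (a.restrict φ).act (snd H X) = (φ ▷ X) ≫ lift a.act (snd K X) := by
    rw [comp_lift, whiskerRight_snd]; rfl
  have := h.1
  unfold NonAbH1.IsPseudoTorsorSch at this ⊢
  rw [e]
  infer_instance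

end Groth.LoopPatch
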