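import Mathlib
import Groth.Agent.LoopPatch.Patch
import Groth.Agent.LoopPatch.Transport
import Groth.Agent.TorsProper.GlueMain

/-!
Forms of a torsor constant along the coordinates and descended torsors.
-/

set_option autoImplicit false
set_option backward.isDefEq.respectTransparency false

universe u

open CategoryTheory CategoryTheory.Limits MonoidalCategory CartesianMonoidalCategory MonObj GrpObj
open AlgebraicGeometry
open scoped TensorProduct
open Groth.SpecFerrand (Sp Sp_comp)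
open Groth.TorsProper Groth.TorsProper.PushPts

noncomputable section

namespace Groth.LoopPatch.Patch

attribute [local instance 10000] CategoryTheory.Hom.group
set_option synthInstance.maxHeartbeats 400000

variable {R : Type u} [CommRing R] {S : Scheme.{u}} (σ : S ≅ Spec (CommRingCat.of R))
  {G : Over S} [GrpObj G] {A : Scheme.{u}} {f : A ⟶ S}

/-- The trivialising data exist. -/
theorem exists_datum (P : NonAbH1.TorsorSch (Red.bc f G) Scheme.fppfPrecoverage)
    {C₀ : Type u} [CommRing C₀] [Algebra R C₀] (ε : ptS σ C₀ ≅ Over.mk f) (z : C₀ →ₐ[R] R) :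
    ∃ (D : Type u) (_ : CommRing D) (_ : Algebra R D) (_ : Module.Flat R D)
      (_ : Surjective (Spec.map (CommRingCat.ofHom (algebraMap R D)))),
      Nonempty (Datum σ G P.act ε z (D := D)) := by
  let w := av σ ε ((Algebra.ofId R R).comp z)
  have hX := NonAbH1.isLocallyTrivialFor_bc w.left Scheme.fppfPrecoverage P.isTorsor.2
  obtain ⟨D, _, _, hflat, hsurj, ⟨x, hx⟩, -⟩ := Adic.exists_cover hX hX
  let x₀ : ptS σ D ⟶ (Over.map f).obj P.X := Over.homMk (x ≫ pullback.fst P.X.hom w.left) (by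
    show (x ≫ pullback.fst P.X.hom w.left) ≫ P.X.hom ≫ f = _
    rw [Category.assoc, pullback.condition_assoc, ← Category.assoc x]
    refine (congrArg (· ≫ w.left ≫ f) hx).trans ?_
    exact (congrArg (Spec.map (CommRingCat.ofHom (algebraMap R D)) ≫ ·) (Over.w w)).trans (by
      show _ ≫ Sp (algebraMap R R) ≫ σ.inv = Sp (algebraMap R D) ≫ σ.inv
      rw [← Category.assoc]
      exact congrArg (· ≫ σ.inv) ((Sp_comp _ _).trans (congrArg Sp (RingHom.ext fun r => rfl)))))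
  have hx₀ : x₀ ≫ pr f P.X = av σ ε ((Algebra.ofId R D).comp z) := by
    have e : av σ ε ((Algebra.ofId R D).comp z) = ptSMap σ (Algebra.ofId R D) ≫ w := by
      rw [ptSMap_av]
      exact congrArg (av σ ε) (AlgHom.ext fun c => by simp)
    rw [e]
    apply Over.OverMorphism.ext
    show (x ≫ pullback.fst P.X.hom w.left) ≫ P.X.hom = _
    rw [Category.assoc, pullback.condition, ← Category.assoc]
    exact congrArg (· ≫ w.left) hx
  obtain ⟨h, hh⟩ := exists_smul_eq (W := ptS σ (D ⊗[R] D)) P.isTorsor.1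
    (x := ptSMap σ Algebra.TensorProduct.includeLeft ≫ x₀)
    (x' := ptSMap σ Algebra.TensorProduct.includeRight ≫ x₀) (by
      rw [Category.assoc, Category.assoc, hx₀, ptSMap_av, ptSMap_av]
      exact congrArg (av σ ε) (AlgHom.ext fun c => by simp))
  exact ⟨D, inferInstance, inferInstance, hflat, hsurj, ⟨⟨x₀, hx₀, h, hh⟩⟩⟩

variable {X : Over A} {a : AlgGrp.Action (Red.bc f G) X}
  {C₀ : Type u} [CommRing C₀] [Algebra R C₀] {ε : ptS σ C₀ ≅ Over.mk f} {z : C₀ →ₐ[R] R}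
  {D : Type u} [CommRing D] [Algebra R D] (E : Datum σ G a ε z (D := D))

theorem Datum.descAway_zero : E.DescAway σ 0 := by
  let C := Localization.Away (algebraMap R C₀ 0)
  haveI : Subsingleton C :=
    IsLocalization.subsingleton (M := Submonoid.powers (algebraMap R C₀ 0)) ⟨1, by simp⟩
  haveI : Subsingleton (D ⊗[R] C) :=
    subsingleton_of_zero_eq_one (by
      rw [Algebra.TensorProduct.one_def, Subsingleton.elim (1 : C) 0, TensorProduct.tmul_zero])
  haveI : Subsingleton ((D ⊗[R] D) ⊗[R] C) :=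
    subsingleton_of_zero_eq_one (by
      rw [Algebra.TensorProduct.one_def, Subsingleton.elim (1 : C) 0, TensorProduct.tmul_zero])
  haveI : IsEmpty (ptS σ (D ⊗[R] C)).left := inferInstanceAs (IsEmpty (PrimeSpectrum (D ⊗[R] C)))
  haveI : IsEmpty (ptS σ ((D ⊗[R] D) ⊗[R] C)).left :=
    inferInstanceAs (IsEmpty (PrimeSpectrum ((D ⊗[R] D) ⊗[R] C)))
  exact ⟨Over.homMk (isInitialOfIsEmpty.to _) (isInitialOfIsEmpty.hom_ext _ _),
    Over.OverMorphism.ext (isInitialOfIsEmpty.hom_ext _ _),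
    Over.OverMorphism.ext (isInitialOfIsEmpty.hom_ext _ _)⟩

variable {U : Scheme.{u}} {j : U ⟶ S}

variable (f j) in
/-- A point of the fibre product, over the base. -/
def bmk {W : Over S} (w : W ⟶ Over.mk f) (v : W ⟶ Over.mk j) : W ⟶ Over.mk (pullback.snd f j ≫ j) :=
  Over.homMk (pullback.lift w.left v.left ((Over.w w).trans (Over.w v).symm)) (by
    show pullback.lift w.left v.left _ ≫ pullback.snd f j ≫ j = W.hom
    rw [pullback.lift_snd_assoc]; exact Over.w v)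

theorem bmk_fst {W : Over S} (w : W ⟶ Over.mk f) (v : W ⟶ Over.mk j) :
    (bmk f j w v).left ≫ pullback.fst f j = w.left :=
  pullback.lift_fst _ _ _

theorem bmk_snd {W : Over S} (w : W ⟶ Over.mk f) (v : W ⟶ Over.mk j) :
    (bmk f j w v).left ≫ pullback.snd f j = v.left :=
  pullback.lift_snd _ _ _

theorem bmk_nat {W W' : Over S} (k : W' ⟶ W) (w : W ⟶ Over.mk f) (v : W ⟶ Over.mk j) :
    k ≫ bmk f j w v = bmk f j (k ≫ w) (k ≫ v) := by
  apply Over.OverMorphism.ext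
  apply pullback.hom_ext
  · exact (Category.assoc _ _ _).trans ((congrArg (k.left ≫ ·) (bmk_fst w v)).trans (bmk_fst (k ≫ w) (k ≫ v)).symm)
  · exact (Category.assoc _ _ _).trans ((congrArg (k.left ≫ ·) (bmk_snd w v)).trans (bmk_snd (k ≫ w) (k ≫ v)).symm)

/-- A descended torsor gives a constant form. -/
theorem Datum.desc_of_equiv {P : Over U} (aP : AlgGrp.Action (Red.bc j G) P)
    (e : NonAbH1.EquivIso
      ((aP.bc (pullback.snd f j)).restrict (ActBC.bcCompIso (pullback.snd f j) j G rfl).inv)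
      ((a.bc (pullback.fst f j)).restrict (ActBC.bcCompIso (pullback.fst f j) f G pullback.condition).inv))
    {C : Type u} [CommRing C] [Algebra R C] (c₀ : C₀ →ₐ[R] C) (v : ptS σ C ⟶ Over.mk j) : E.Desc σ c₀ := by
  let iR : C →ₐ[R] D ⊗[R] C := Algebra.TensorProduct.includeRight
  let iL : D →ₐ[R] D ⊗[R] C := Algebra.TensorProduct.includeLeft
  let vD : ptS σ (D ⊗[R] C) ⟶ Over.mk j := ptSMap σ iR ≫ v
  let b₀ := bmk f j (av σ ε (iL.comp ((Algebra.ofId R D).comp z))) vD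
  let b := bmk f j (av σ ε (iR.comp c₀)) vD
  let x : ptS σ (D ⊗[R] C) ⟶ (Over.map f).obj X := ptSMap σ iL ≫ E.x₀
  have hx : x.left ≫ X.hom = b₀.left ≫ pullback.fst f j := by
    rw [bmk_fst, ← ptSMap_av σ ε, ← E.hx₀]
    exact Category.assoc _ _ _
  let p := move pullback.condition rfl (symmIso e) b₀ x hx
  have hp : p.left ≫ P.hom = b.left ≫ pullback.snd f j := by
    rw [move_hom, bmk_snd, bmk_snd]
  let y := move rfl pullback.condition e b p hp
  refine ⟨y, Over.OverMorphism.ext ((move_hom _ _ _ _ _ hp).trans (bmk_fst _ _)), ?_⟩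
  let k₁ := ptSMap σ (q₁ (D := D) C)
  let k₂ := ptSMap σ (q₂ (D := D) C)
  have hv : k₁ ≫ vD = k₂ ≫ vD := by
    rw [ptSMap_comp_assoc, ptSMap_comp_assoc]
    exact congrArg (fun φ => ptSMap σ φ ≫ v) (AlgHom.ext fun c => by simp [iR])
  have hb : k₁ ≫ b = k₂ ≫ b := by
    rw [bmk_nat, bmk_nat, hv, ptSMap_av, ptSMap_av]
    exact congrArg (fun φ => bmk f j (av σ ε φ) (k₂ ≫ vD)) (AlgHom.ext fun c => by simp [iR])
  have hb₀ : k₁ ≫ b₀ = k₂ ≫ b₀ := by
    rw [bmk_nat, bmk_nat, hv, ptSMap_av, ptSMap_av]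
    exact congrArg (fun φ => bmk f j (av σ ε φ) (k₂ ≫ vD)) (AlgHom.ext fun c => by simp [iL])
  have hxx : PushPts.smul a (E.hC σ C) (k₁ ≫ x) = k₂ ≫ x :=
    (E.good_const σ C).coc
  have hpp : PushPts.smul aP (E.hC σ C) (k₁ ≫ p) = k₂ ≫ p := by
    rw [move_nat, move_nat]
    exact (move_smul _ _ _ _ _ _ _).symm.trans (move_congr _ _ _ _ _ hb₀ hxx)
  show PushPts.smul a (E.hC σ C) (k₁ ≫ y) = k₂ ≫ y
  rw [move_nat _ _ e k₁ b p hp, move_nat _ _ e k₂ b p hp]
  exact (move_smul _ _ _ _ _ _ _).symm.trans (move_congr _ _ _ _ _ hb hpp)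

theorem exists_toSpec {W : Scheme.{u}} {Q : CommRingCat.{u}} (u' : W ⟶ Spec Q) :
    ∃ ψ : Q ⟶ Γ(W, ⊤), u' = W.toSpecΓ ≫ Spec.map ψ :=
  ⟨(ΓSpec.adjunction.homEquiv W (Opposite.op Q)).symm u' |>.unop,
    ((ΓSpec.adjunction.homEquiv W (Opposite.op Q)).apply_symm_apply u').symm.trans
      (Adjunction.homEquiv_unit _ _ _ _)⟩

theorem toSpec_injective {W : Scheme.{u}} {Q : CommRingCat.{u}} {ψ ψ' : Q ⟶ Γ(W, ⊤)}
    (e : W.toSpecΓ ≫ Spec.map ψ = W.toSpecΓ ≫ Spec.map ψ') : ψ = ψ' := by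
  have := (ΓSpec.adjunction.homEquiv W (Opposite.op Q)).injective (a₁ := ψ.op) (a₂ := ψ'.op)
    ((Adjunction.homEquiv_unit _ _ _ _).trans (e.trans (Adjunction.homEquiv_unit _ _ _ _).symm))
  exact Quiver.Hom.op_inj this

theorem exists_pairHom {C Γ' : Type u} [CommRing C] [Algebra R C] [CommRing Γ']
    (ψ₁ ψ₂ : D ⊗[R] C →+* Γ')
    (h : ψ₁.comp (Algebra.TensorProduct.includeRight : C →ₐ[R] D ⊗[R] C).toRingHom =
      ψ₂.comp (Algebra.TensorProduct.includeRight : C →ₐ[R] D ⊗[R] C).toRingHom) :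
    ∃ Φ : (D ⊗[R] D) ⊗[R] C →+* Γ', Φ.comp (q₁ (R := R) (D := D) C).toRingHom = ψ₁ ∧
      Φ.comp (q₂ (R := R) (D := D) C).toRingHom = ψ₂ := by
  letI : Algebra R Γ' := (ψ₁.comp (algebraMap R (D ⊗[R] C))).toAlgebra
  have hR : ∀ x : R, ψ₂ (algebraMap R (D ⊗[R] C) x) = algebraMap R Γ' x := fun x => by
    rw [← (Algebra.TensorProduct.includeRight : C →ₐ[R] D ⊗[R] C).commutes]
    exact (RingHom.congr_fun h _).symm.trans
      (congrArg ψ₁ ((Algebra.TensorProduct.includeRight : C →ₐ[R] D ⊗[R] C).commutes x))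
  let φ₁ : D ⊗[R] C →ₐ[R] Γ' := { ψ₁ with commutes' := fun x => rfl }
  let φ₂ : D ⊗[R] C →ₐ[R] Γ' := { ψ₂ with commutes' := hR }
  let Φ : (D ⊗[R] D) ⊗[R] C →ₐ[R] Γ' := Algebra.TensorProduct.lift
    (Algebra.TensorProduct.lift (φ₁.comp Algebra.TensorProduct.includeLeft)
      (φ₂.comp Algebra.TensorProduct.includeLeft) fun _ _ => Commute.all _ _)
    (φ₁.comp Algebra.TensorProduct.includeRight) fun _ _ => Commute.all _ _
  have e₁ : Φ.comp (q₁ C) = φ₁ :=
    Algebra.TensorProduct.ext (AlgHom.ext fun d => by simp [Φ, ← Algebra.TensorProduct.one_def])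
      (AlgHom.ext fun c => by simp [Φ, ← Algebra.TensorProduct.one_def])
  have e₂ : Φ.comp (q₂ C) = φ₂ :=
    Algebra.TensorProduct.ext (AlgHom.ext fun d => by simp [Φ, ← Algebra.TensorProduct.one_def])
      (AlgHom.ext fun c => by
        have hc : φ₁ ((1 : D) ⊗ₜ[R] c) = φ₂ ((1 : D) ⊗ₜ[R] c) := RingHom.congr_fun h c
        simpa [Φ, ← Algebra.TensorProduct.one_def] using hc)
  exact ⟨Φ.toRingHom, congrArg AlgHom.toRingHom e₁, congrArg AlgHom.toRingHom e₂⟩

theorem exists_pair {C : Type u} [CommRing C] [Algebra R C] {W : Over S} (t₁ t₂ : W ⟶ ptS σ (D ⊗[R] C))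
    (h : t₁ ≫ ptSMap σ (Algebra.TensorProduct.includeRight : C →ₐ[R] D ⊗[R] C) =
      t₂ ≫ ptSMap σ Algebra.TensorProduct.includeRight) :
    ∃ t : W ⟶ ptS σ ((D ⊗[R] D) ⊗[R] C), t ≫ ptSMap σ (q₁ C) = t₁ ∧ t ≫ ptSMap σ (q₂ C) = t₂ := by
  obtain ⟨ψ₁, h₁⟩ := exists_toSpec (Q := CommRingCat.of (D ⊗[R] C)) t₁.left
  obtain ⟨ψ₂, h₂⟩ := exists_toSpec (Q := CommRingCat.of (D ⊗[R] C)) t₂.left
  obtain ⟨Φ, e₁, e₂⟩ := exists_pairHom (R := R) (D := D) ψ₁.hom ψ₂.hom (by
    have e : t₁.left ≫ Sp (Algebra.TensorProduct.includeRight : C →ₐ[R] D ⊗[R] C).toRingHom =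
        t₂.left ≫ Sp (Algebra.TensorProduct.includeRight : C →ₐ[R] D ⊗[R] C).toRingHom :=
      congrArg CommaMorphism.left h
    rw [h₁, h₂, Category.assoc, Category.assoc, ← Spec.map_comp, ← Spec.map_comp] at e
    exact congrArg CommRingCat.Hom.hom (toSpec_injective e))
  let u' : W.left ⟶ Spec (CommRingCat.of ((D ⊗[R] D) ⊗[R] C)) :=
    W.left.toSpecΓ ≫ Spec.map (CommRingCat.ofHom Φ)
  have k₁ : u' ≫ Sp (q₁ (R := R) (D := D) C).toRingHom = t₁.left := by
    rw [h₁, Category.assoc, ← Spec.map_comp, ← CommRingCat.ofHom_comp, e₁, CommRingCat.ofHom_hom]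
  have k₂ : u' ≫ Sp (q₂ (R := R) (D := D) C).toRingHom = t₂.left := by
    rw [h₂, Category.assoc, ← Spec.map_comp, ← CommRingCat.ofHom_comp, e₂, CommRingCat.ofHom_hom]
  refine ⟨Over.homMk u' ?_, Over.OverMorphism.ext k₁, Over.OverMorphism.ext k₂⟩
  refine (congrArg (u' ≫ ·) (Over.w (ptSMap σ (q₁ (D := D) C))).symm).trans ?_
  rw [← Category.assoc]
  exact (congrArg (· ≫ (ptS σ (D ⊗[R] C)).hom) k₁).trans (Over.w t₁)

/-- A constant form gives an equivariant isomorphism. -/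
theorem Datum.equivIso_of_good [Module.Flat R D] [Surjective (Spec.map (CommRingCat.ofHom (algebraMap R D)))]
    (ha : NonAbH1.IsPseudoTorsorSch a) {C : Type u} [CommRing C] [Algebra R C] {c₀ : C₀ →ₐ[R] C} {y}
    (hy : E.Good σ c₀ y) {B : Scheme.{u}} {d : B ⟶ S} (β : ptS σ C ≅ Over.mk d) {Q₁ Q₂ : Over B}
    {a₁ : AlgGrp.Action (Red.bc d G) Q₁} {a₂ : AlgGrp.Action (Red.bc d G) Q₂}
    (ha₁ : NonAbH1.IsPseudoTorsorSch a₁) (ha₂ : NonAbH1.IsPseudoTorsorSch a₂)
    (π₁ : (Over.map d).obj Q₁ ⟶ (Over.map f).obj X) (π₂ : (Over.map d).obj Q₂ ⟶ (Over.map f).obj X)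
    (h₁ : ∀ (Z : Over B) (g : Z ⟶ Red.bc d G) (q : Z ⟶ Q₁),
      (Over.map d).map (lift g q ≫ a₁.act) ≫ π₁ =
        PushPts.smul a ((he d Z G).symm g) ((Over.map d).map q ≫ π₁))
    (h₂ : ∀ (Z : Over B) (g : Z ⟶ Red.bc d G) (q : Z ⟶ Q₂),
      (Over.map d).map (lift g q ≫ a₂.act) ≫ π₂ =
        PushPts.smul a ((he d Z G).symm g) ((Over.map d).map q ≫ π₂))
    (inj₂ : ∀ (Z : Over B) (q q' : Z ⟶ Q₂),
      (Over.map d).map q ≫ π₂ = (Over.map d).map q' ≫ π₂ → q = q')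
    (x₁ : Over.mk (ptSMap σ (Algebra.TensorProduct.includeRight : C →ₐ[R] D ⊗[R] C) ≫ β.hom).left ⟶ Q₁)
    (hx₁ : (Over.map d).map x₁ ≫ π₁ = dnB _ ≫ ptSMap σ Algebra.TensorProduct.includeLeft ≫ E.x₀)
    (x₂ : Over.mk (ptSMap σ (Algebra.TensorProduct.includeRight : C →ₐ[R] D ⊗[R] C) ≫ β.hom).left ⟶ Q₂)
    (hx₂ : (Over.map d).map x₂ ≫ π₂ = dnB _ ≫ y) :
    Nonempty (NonAbH1.EquivIso a₁ a₂) := by
  let b := ptSMap σ (Algebra.TensorProduct.includeRight : C →ₐ[R] D ⊗[R] C) ≫ β.hom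
  let T : Over B := Over.mk b.left
  let iR : C →+* D ⊗[R] C := (Algebra.TensorProduct.includeRight : C →ₐ[R] D ⊗[R] C).toRingHom
  have hbc : IsPullback (Sp (Algebra.TensorProduct.includeLeftRingHom : D →+* D ⊗[R] C)) (Sp iR)
      (Sp (algebraMap R D)) (Sp (algebraMap R C)) :=
    isPullback_SpecMap_of_isPushout _ _ _ _ (CommRingCat.isPushout_tensorProduct R D C)
  haveI hsf : Surjective (Sp iR) :=
    MorphismProperty.of_isPullback hbc ‹Surjective (Spec.map (CommRingCat.ofHom (algebraMap R D)))›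
  haveI hff : Flat (Sp iR) := MorphismProperty.of_isPullback hbc
    ((HasRingHomProperty.Spec_iff (P := @Flat)).2 (RingHom.flat_algebraMap_iff.2 ‹_›))
  haveI : IsIso β.hom.left := inferInstanceAs (IsIso ((Over.forget S).map β.hom))
  haveI : Surjective T.hom := inferInstanceAs (Surjective (Sp iR ≫ β.hom.left))
  haveI : Flat T.hom := inferInstanceAs (Flat (Sp iR ≫ β.hom.left))
  haveI : QuasiCompact T.hom := inferInstanceAs (QuasiCompact (Sp iR ≫ β.hom.left))
  refine Cocycle.exists_equivIso ha₁ ha₂ x₁ x₂ fun Z d₁ d₂ g hg => inj₂ Z _ _ ?_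
  let t₁ := (Over.map d).map d₁ ≫ dnB b
  let t₂ := (Over.map d).map d₂ ≫ dnB b
  have hb : ∀ d' : Z ⟶ T, (((Over.map d).map d' ≫ dnB b) ≫ b).left = Z.hom := fun d' => by
    show (d'.left ≫ 𝟙 _) ≫ b.left = Z.hom
    rw [Category.comp_id]; exact Over.w d'
  obtain ⟨t, ht₁, ht₂⟩ := exists_pair σ t₁ t₂ (by
    rw [← cancel_mono β.hom, Category.assoc, Category.assoc]
    exact Over.OverMorphism.ext ((hb d₁).trans (hb d₂).symm))
  have e := (h₁ Z g (d₁ ≫ x₁)).symm.trans (congrArg (fun q => (Over.map d).map q ≫ π₁) hg)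
  rw [Functor.map_comp, Functor.map_comp, Category.assoc, Category.assoc, hx₁] at e
  have hk : (he d Z G).symm g = t ≫ E.hC σ C := by
    refine smul_cancel ha (x := t₁ ≫ ptSMap σ Algebra.TensorProduct.includeLeft ≫ E.x₀) ?_
    refine (e : PushPts.smul a ((he d Z G).symm g) _ = _).trans ?_
    have hc := congrArg (t ≫ ·) (E.good_const σ C).coc
    simp only [smul_nat, ← Category.assoc t, ht₁, ht₂] at hc
    simp only [← Category.assoc t] 
    exact hc.symm
  rw [h₂, Functor.map_comp, Functor.map_comp, Category.assoc, Category.assoc, hx₂, hk]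
  have hc := congrArg (t ≫ ·) hy.coc
  simp only [smul_nat, ← Category.assoc t, ht₁, ht₂] at hc
  simp only [← Category.assoc t]
  exact hc

theorem map_pushMap {A' B : Scheme.{u}} {f' : A' ⟶ S} {X' : Over A'} {d : B ⟶ S} {k : B ⟶ A'}
    (hk : k ≫ f' = d) {Z : Over B} (q : Z ⟶ Red.bc k X') :
    (Over.map d).map q ≫ pushMap X' hk = pushPoint k hk q :=
  Over.OverMorphism.ext (congrArg (q.left ≫ ·) (pushMap_left hk))

/-- A constant form gives a descended torsor. -/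
theorem Datum.exists_torsor_of_good [Module.Flat R D]
    [Surjective (Spec.map (CommRingCat.ofHom (algebraMap R D)))]
    (hX : NonAbH1.IsTorsorFor Scheme.fppfPrecoverage a) {C : Type u} [CommRing C] [Algebra R C]
    {c₀ : C₀ →ₐ[R] C} {y} (hy : E.Good σ c₀ y) (k₀ : U ⟶ A) (hk₀ : k₀ ≫ f = j)
    (β : ptS σ C ≅ Over.mk (pullback.snd f j ≫ j)) (hβ₁ : β.hom.left ≫ pullback.fst f j = (av σ ε c₀).left)
    (hβ₂ : β.hom.left ≫ pullback.snd f j ≫ k₀ = (av σ ε ((Algebra.ofId R C).comp z)).left) :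
    ∃ P : NonAbH1.TorsorSch (Red.bc j G) Scheme.fppfPrecoverage,
      Nonempty (NonAbH1.EquivIso
        ((P.act.bc (pullback.snd f j)).restrict (ActBC.bcCompIso (pullback.snd f j) j G rfl).inv)
        ((a.bc (pullback.fst f j)).restrict
          (ActBC.bcCompIso (pullback.fst f j) f G pullback.condition).inv)) := by
  let aP := (a.bc k₀).restrict (ActBC.bcCompIso k₀ f G hk₀).inv
  have hP : NonAbH1.IsTorsorFor Scheme.fppfPrecoverage aP :=
    isTorsorFor_restrict _ (NonAbH1.isTorsorFor_bc k₀ Scheme.fppfPrecoverage hX)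
  refine ⟨⟨_, aP, hP⟩, ?_⟩
  let iR : C →ₐ[R] D ⊗[R] C := Algebra.TensorProduct.includeRight
  let b := ptSMap σ iR ≫ β.hom
  let x : ptS σ (D ⊗[R] C) ⟶ (Over.map f).obj X := ptSMap σ Algebra.TensorProduct.includeLeft ≫ E.x₀
  have hx : x.left ≫ X.hom = b.left ≫ pullback.snd f j ≫ k₀ := by
    refine (congrArg CommaMorphism.left (E.good_const σ C).proj).trans ?_
    rw [← ptSMap_av σ ε]
    show (ptSMap σ iR).left ≫ (av σ ε _).left = ((ptSMap σ iR).left ≫ β.hom.left) ≫ _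
    rw [Category.assoc, hβ₂]
  obtain ⟨p, hp⟩ := exists_pushPoint (B := pullback f j) (Y := Over.mk b.left) (X := X)
    (d := pullback.snd f j ≫ j) (pullback.snd f j ≫ k₀) (by rw [Category.assoc, hk₀]) (dnB b ≫ x)
    ((congrArg (· ≫ X.hom) (Category.id_comp _)).trans hx)
  let p₁ : Over.mk b.left ⟶ Red.bc (pullback.snd f j) (Red.bc k₀ X) :=
    p ≫ (ActBC.bcCompIso (pullback.snd f j) k₀ X rfl).inv
  have hp₁ : pushPoint (pullback.snd f j) rfl p₁ ≫ pushMap X hk₀ = dnB b ≫ x := by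
    rw [← hp]
    apply Over.OverMorphism.ext
    show ((p.left ≫ _) ≫ pullback.fst _ _) ≫ (pushMap X hk₀).left = p.left ≫ pullback.fst _ _
    rw [pushMap_left, Category.assoc, Category.assoc]
    congr 1
    rw [← cancel_epi (ActBC.bcCompIso (pullback.snd f j) k₀ X rfl).hom.left, ← Category.assoc,
      ← Over.comp_left, Iso.hom_inv_id, Over.id_left, Category.id_comp, ActBC.bcCompIso_hom_left_fst]
  obtain ⟨p₂, hp₂⟩ := exists_pushPoint (B := pullback f j) (Y := Over.mk b.left) (X := X)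
    (d := pullback.snd f j ≫ j) (pullback.fst f j) pullback.condition (dnB b ≫ y) (by
      refine (congrArg (· ≫ X.hom) (Category.id_comp _)).trans ?_
      refine (congrArg CommaMorphism.left hy.proj).trans ?_
      show _ = ((ptSMap σ iR).left ≫ β.hom.left) ≫ pullback.fst f j
      rw [← ptSMap_av σ ε, Category.assoc, hβ₁]
      rfl)
  refine E.equivIso_of_good σ hX.1 hy β
    (isTorsorFor_restrict _ (NonAbH1.isTorsorFor_bc (pullback.snd f j) Scheme.fppfPrecoverage hP)).1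
    (isTorsorFor_restrict _ (NonAbH1.isTorsorFor_bc (pullback.fst f j) Scheme.fppfPrecoverage hX)).1
    (pushMap _ rfl ≫ pushMap X hk₀) (pushMap X pullback.condition) ?_ ?_ ?_ p₁ ?_ p₂ ?_
  · intro Z g q
    rw [← Category.assoc, ← Category.assoc, map_pushMap, map_pushMap, pushPoint_act, smul_pushMap]
  · intro Z g q
    rw [map_pushMap, map_pushMap, pushPoint_act]
  · intro Z q q' h
    rw [map_pushMap, map_pushMap] at h
    exact pushPoint_injective _ _ h
  · rw [← Category.assoc, map_pushMap]; exact hp₁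
  · rw [map_pushMap]; exact hp₂

end Groth.LoopPatch.Patch
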