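import Mathlib
import Groth.Agent.LoopPatch.Descends

/-!
The ideal over which a torsor on affine space descends.
-/

set_option autoImplicit false
set_option backward.isDefEq.respectTransparency false

universe u

open CategoryTheory CategoryTheory.Limits MonoidalCategory CartesianMonoidalCategory MonObj GrpObj
open AlgebraicGeometry
open scoped TensorProduct
open Groth.SpecFerrand (Sp Sp_comp)
open Groth.TorsProper Groth.TorsProper.PushPts

noncomputable section

namespace Groth.LoopPatch.Patch

attribute [local instance 10000] CategoryTheory.Hom.group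
set_option synthInstance.maxHeartbeats 400000

variable {R : Type u} [CommRing R] (n : Type u)

/-- The origin. -/
def zeroPt : MvPolynomial n R →ₐ[R] R := MvPolynomial.aeval fun _ => (0 : R)

/-- Scaling the coordinates. -/
def scalePt : MvPolynomial n R →ₐ[R] Polynomial (MvPolynomial n R) :=
  MvPolynomial.aeval fun i => Polynomial.C (MvPolynomial.X i) * Polynomial.X

theorem ev0_scalePt : (ev0 R (MvPolynomial n R)).comp (scalePt n) =
    (Algebra.ofId R (MvPolynomial n R)).comp (zeroPt n) :=
  MvPolynomial.algHom_ext fun i => by simp [scalePt, zeroPt]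

theorem eval_one_scalePt (c : MvPolynomial n R) : (scalePt n c).eval 1 = c := by
  have : ((Polynomial.aeval (1 : MvPolynomial n R)).restrictScalars R).comp (scalePt n) =
      AlgHom.id R (MvPolynomial n R) :=
    MvPolynomial.algHom_ext fun i => by simp [scalePt]
  rw [← Polynomial.coe_aeval_eq_eval]
  exact AlgHom.congr_fun this c

variable {n} {S : Scheme.{u}} (σ : S ≅ Spec (CommRingCat.of R)) {G : Over S} [GrpObj G]
  [LocallyOfFinitePresentation G.hom] {A : Scheme.{u}} {f : A ⟶ S} {X : Over A}
  {a : AlgGrp.Action (Red.bc f G) X} {ε : ptS σ (MvPolynomial n R) ≅ Over.mk f}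
  {D : Type u} [CommRing D] [Algebra R D] (E : Datum σ G a ε (zeroPt n) (D := D))

/-- The ideal over which the torsor descends. -/
def Datum.descIdeal (ha : NonAbH1.IsPseudoTorsorSch a) : Ideal R where
  carrier := {r | E.DescAway σ r}
  zero_mem' := E.descAway_zero σ
  add_mem' {r s} hr hs :=
    E.descAway_of_mem_span σ ha (scalePt n) (ev0_scalePt n) (eval_one_scalePt n)
      (add_mem (Ideal.subset_span (Set.mem_insert r {s}))
        (Ideal.subset_span (Set.mem_insert_of_mem r rfl))) hr hs
  smul_mem' c _ hr := hr.mul σ E c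

variable (n) in
/-- The algebra of functions away from `r`. -/
abbrev polyAway (r : R) : Type u := Localization.Away (algebraMap R (MvPolynomial n R) r)

theorem isUnit_polyAway (r : R) : IsUnit (algebraMap R (polyAway n r) r) := by
  rw [IsScalarTower.algebraMap_apply R (MvPolynomial n R) (polyAway n r)]
  exact IsLocalization.Away.algebraMap_isUnit _

/-- The scalars inside the functions. -/
def awayMap (r : R) : Localization.Away r →ₐ[R] polyAway n r :=
  IsLocalization.liftAlgHom (M := Submonoid.powers r) (f := Algebra.ofId R (polyAway n r)) (by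
    rintro ⟨_, k, rfl⟩
    rw [map_pow]
    exact (isUnit_polyAway r).pow k)

/-- The point of the scalars. -/
def awayPt (r : R) {U : Scheme.{u}} {j : U ⟶ S} (v : Spec (CommRingCat.of (Localization.Away r)) ⟶ U)
    (hv : v ≫ j = Sp (algebraMap R (Localization.Away r)) ≫ σ.inv) : ptS σ (polyAway n r) ⟶ Over.mk j :=
  Over.homMk (Sp (awayMap (n := n) r).toRingHom ≫ v) (by
    show (Sp (awayMap (n := n) r).toRingHom ≫ v) ≫ j = Sp (algebraMap R (polyAway n r)) ≫ σ.inv
    rw [Category.assoc, hv, ← Category.assoc, Sp_comp]
    exact congrArg (fun φ => Sp φ ≫ σ.inv) (RingHom.ext fun x => (awayMap (n := n) r).commutes x))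

theorem exists_beta (ε : ptS σ (MvPolynomial n R) ≅ Over.mk f) (r : R)
    {j : Spec (CommRingCat.of (Localization.Away r)) ⟶ S}
    (hj : j = Sp (algebraMap R (Localization.Away r)) ≫ σ.inv) :
    ∃ β : ptS σ (polyAway n r) ≅ Over.mk (pullback.snd f j ≫ j),
      β.hom.left ≫ pullback.fst f j =
        (av σ ε (IsScalarTower.toAlgHom R (MvPolynomial n R) (polyAway n r))).left ∧
      β.hom.left ≫ pullback.snd f j = Sp (awayMap (n := n) r).toRingHom := by
  let P := MvPolynomial n R
  let c : P →ₐ[R] polyAway n r := IsScalarTower.toAlgHom R P (polyAway n r)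
  have hsq : IsPullback (Sp (algebraMap P (polyAway n r))) (Sp (awayMap (n := n) r).toRingHom)
      (Sp (algebraMap R P)) (Sp (algebraMap R (Localization.Away r))) := by
    haveI : IsLocalization ((Submonoid.powers r).map (algebraMap R P)) (polyAway n r) := by
      rw [Submonoid.map_powers]; infer_instance
    refine isPullback_SpecMap_of_isPushout _ _ _ _
      (CommRingCat.isPushout_of_isLocalization (algebraMap R P) (awayMap (n := n) r).toRingHom ?_
        (Submonoid.powers r))
    exact RingHom.ext fun x =>
      ((awayMap (n := n) r).commutes x).trans (IsScalarTower.algebraMap_apply R P (polyAway n r) x)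
  haveI : IsIso ε.hom.left := inferInstanceAs (IsIso ((Over.forget S).map ε.hom))
  have hsq' : IsPullback (Sp (algebraMap P (polyAway n r)) ≫ ε.hom.left) (Sp (awayMap (n := n) r).toRingHom)
      f j := by
    refine hsq.of_iso (Iso.refl _) (asIso ε.hom.left) (Iso.refl _) σ.symm ?_ ?_ ?_ ?_
    · exact (Category.id_comp _).symm
    · simp
    · exact (Over.w ε.hom).symm
    · rw [hj]; exact (Category.id_comp _).symm
  refine ⟨Over.isoMk hsq'.isoPullback ?_, hsq'.isoPullback_hom_fst, hsq'.isoPullback_hom_snd⟩
  show hsq'.isoPullback.hom ≫ pullback.snd f j ≫ j = Sp (algebraMap R (polyAway n r)) ≫ σ.inv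
  rw [← Category.assoc, hsq'.isoPullback_hom_snd, hj, ← Category.assoc, Sp_comp]
  exact congrArg (fun φ => Sp φ ≫ σ.inv) (RingHom.ext fun x => (awayMap (n := n) r).commutes x)

theorem Datum.exists_torsor_of_descAway [Module.Flat R D]
    [Surjective (Spec.map (CommRingCat.ofHom (algebraMap R D)))]
    (hX : NonAbH1.IsTorsorFor Scheme.fppfPrecoverage a) {r : R} (h : E.DescAway σ r)
    {j : Spec (CommRingCat.of (Localization.Away r)) ⟶ S}
    (hj : j = Sp (algebraMap R (Localization.Away r)) ≫ σ.inv) :
    ∃ P : NonAbH1.TorsorSch (Red.bc j G) Scheme.fppfPrecoverage,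
      Nonempty (NonAbH1.EquivIso
        ((P.act.bc (pullback.snd f j)).restrict (ActBC.bcCompIso (pullback.snd f j) j G rfl).inv)
        ((a.bc (pullback.fst f j)).restrict
          (ActBC.bcCompIso (pullback.fst f j) f G pullback.condition).inv)) := by
  obtain ⟨y, hy⟩ := h
  obtain ⟨β, hβ₁, hβ₂⟩ := exists_beta σ ε r hj
  let w₀ := av σ ε ((Algebra.ofId R (Localization.Away r)).comp (zeroPt n))
  refine E.exists_torsor_of_good σ hX hy w₀.left ((Over.w w₀).trans hj.symm) β hβ₁ ?_
  rw [← Category.assoc, hβ₂]
  show (ptSMap σ (awayMap (n := n) r)).left ≫ w₀.left = _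
  rw [← Over.comp_left, ptSMap_av]
  exact congrArg (fun φ => (av σ ε φ).left) (AlgHom.ext fun x => (awayMap (n := n) r).commutes _)

end Groth.LoopPatch.Patch
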