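import Mathlib
import Groth.Agent.LoopPatch.DescIdeal

/-!
A constant form of a torsor comes from a torsor over the base.
-/

set_option autoImplicit false
set_option backward.isDefEq.respectTransparency false

universe u

open CategoryTheory CategoryTheory.Limits MonoidalCategory CartesianMonoidalCategory MonObj GrpObj
open AlgebraicGeometry
open scoped TensorProduct
open Groth.SpecFerrand (Sp Sp_comp)
open Groth.TorsProper Groth.TorsProper.PushPts

noncomputable section

namespace Groth.LoopPatch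

attribute [local instance 10000] CategoryTheory.Hom.group
set_option synthInstance.maxHeartbeats 400000

variable {S : Scheme.{u}}

/-- The identity, to the object mapped along the identity. -/
abbrev toId (W : Over S) : W ⟶ (Over.map (𝟙 S)).obj W :=
  Over.homMk (𝟙 W.left) (by
    show 𝟙 W.left ≫ W.hom ≫ 𝟙 S = W.hom
    rw [Category.id_comp, Category.comp_id])

/-- The identity, from the object mapped along the identity. -/
abbrev ofMapId (W : Over S) : (Over.map (𝟙 S)).obj W ⟶ W :=
  Over.homMk (𝟙 W.left) (by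
    show 𝟙 W.left ≫ W.hom = W.hom ≫ 𝟙 S
    rw [Category.id_comp, Category.comp_id])

variable (G : Over S) [GrpObj G]

/-- A scheme and its base change along the identity. -/
def toBcId : G ⟶ Red.bc (𝟙 S) G := he (𝟙 S) G G (ofMapId G)

theorem comp_toBcId {W : Over S} (g : W ⟶ G) : g ≫ toBcId G = he (𝟙 S) W G (ofMapId W ≫ g) := by
  rw [toBcId, ← Adjunction.homEquiv_naturality_left]
  congr 1

instance : IsMonHom (toBcId G) where
  one_hom := by
    have h : (1 : 𝟙_ (Over S) ⟶ G) ≫ toBcId G = 1 := by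
      have h2 : (1 : 𝟙_ (Over S) ⟶ G) ≫ toBcId G =
          ((1 : 𝟙_ (Over S) ⟶ G) ≫ toBcId G) * ((1 : 𝟙_ (Over S) ⟶ G) ≫ toBcId G) := by
        conv_lhs => rw [← _root_.one_mul (1 : 𝟙_ (Over S) ⟶ G)]
        rw [comp_toBcId, comp_toBcId, MonObj.comp_mul]
        exact AlgGrp.Action.homEquiv_mul _ _ _
      exact mul_eq_left.1 h2.symm
    rw [Hom.one_def, toUnit_unique (toUnit _) (𝟙 _), Category.id_comp, Hom.one_def,
      toUnit_unique (toUnit _) (𝟙 _), Category.id_comp] at h
    exact h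
  mul_hom := by
    have h : (fst G G * snd G G) ≫ toBcId G = (fst G G ≫ toBcId G) * (snd G G ≫ toBcId G) := by
      rw [comp_toBcId, comp_toBcId, comp_toBcId, MonObj.comp_mul]
      exact AlgGrp.Action.homEquiv_mul _ _ _
    have hμ : (μ[G] : G ⊗ G ⟶ G) = fst G G * snd G G := by
      rw [Hom.mul_def, lift_fst_snd, Category.id_comp]
    rw [hμ, h, Hom.mul_def, CartesianMonoidalCategory.lift_fst_comp_snd_comp]

instance : IsIso (toBcId G) := by
  haveI : IsIso (toBcId G).left := by
    haveI : IsIso (pullback.fst G.hom (𝟙 S)) := inferInstance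
    have h : (toBcId G).left ≫ pullback.fst G.hom (𝟙 S) = 𝟙 G.left :=
      congrArg CommaMorphism.left (map_he_cu (𝟙 S) (ofMapId G))
    haveI : IsIso ((toBcId G).left ≫ pullback.fst G.hom (𝟙 S)) := by rw [h]; infer_instance
    exact IsIso.of_isIso_comp_right (toBcId G).left (pullback.fst G.hom (𝟙 S))
  haveI : IsIso ((Over.forget S).map (toBcId G)) := by assumption
  exact isIso_of_reflects_iso _ (Over.forget S)

variable {G} {P : Over S} (a : AlgGrp.Action (Red.bc (𝟙 S) G) P)

theorem lift_restrict_toId {W : Over S} (g : W ⟶ G) (p : W ⟶ P) :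
    (lift g p ≫ (a.restrict (toBcId G)).act) ≫ toId P = PushPts.smul a g (p ≫ toId P) := by
  apply Over.OverMorphism.ext
  have h := smul_eq a (Y := W) (ofMapId W) g (p ≫ toId P) p
    ((Category.id_comp _).trans (Category.comp_id _))
  rw [AlgGrp.Action.lift_restrict_act, comp_toBcId]
  exact (Category.comp_id _).trans (h.symm.trans (Category.id_comp _))

namespace Patch

variable {R : Type u} [CommRing R] {C₀ : Type u} [CommRing C₀] [Algebra R C₀] (σ : S ≅ Spec (CommRingCat.of R))
  [LocallyOfFinitePresentation G.hom] {A : Scheme.{u}} {f : A ⟶ S} {X : Over A}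
  {a : AlgGrp.Action (Red.bc f G) X} {ε : ptS σ C₀ ≅ Over.mk f}
  {z : C₀ →ₐ[R] R}
  {D : Type u} [CommRing D] [Algebra R D] (E : Datum σ G a ε z (D := D))

theorem Datum.exists_torsor_global [Module.Flat R D]
    [Surjective (Spec.map (CommRingCat.ofHom (algebraMap R D)))]
    (hX : NonAbH1.IsTorsorFor Scheme.fppfPrecoverage a) (h : E.Desc σ (AlgHom.id R C₀)) :
    ∃ P : NonAbH1.TorsorSch G Scheme.fppfPrecoverage, Nonempty (NonAbH1.EquivIso (P.act.bc f) a) := by
  obtain ⟨y, hy⟩ := h
  let w₀ := av σ ε ((Algebra.ofId R R).comp z)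
  have hw : w₀.left ≫ f = σ.inv := by
    refine (Over.w w₀).trans ?_
    show Sp (algebraMap R R) ≫ σ.inv = σ.inv
    rw [Algebra.algebraMap_self]
    exact (congrArg (· ≫ σ.inv) (Spec.map_id _)).trans (Category.id_comp _)
  let k₀ : S ⟶ A := σ.hom ≫ w₀.left
  have hk₀ : k₀ ≫ f = 𝟙 S := by rw [Category.assoc, hw, Iso.hom_inv_id]
  let aP := (a.bc k₀).restrict (ActBC.bcCompIso k₀ f G hk₀).inv
  have hP : NonAbH1.IsTorsorFor Scheme.fppfPrecoverage aP :=
    isTorsorFor_restrict _ (NonAbH1.isTorsorFor_bc k₀ Scheme.fppfPrecoverage hX)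
  let P : NonAbH1.TorsorSch G Scheme.fppfPrecoverage :=
    ⟨_, aP.restrict (toBcId G), isTorsorFor_restrict _ hP⟩
  refine ⟨P, ?_⟩
  let iR : C₀ →ₐ[R] D ⊗[R] C₀ := Algebra.TensorProduct.includeRight
  let b := ptSMap σ iR ≫ ε.hom
  let x : ptS σ (D ⊗[R] C₀) ⟶ (Over.map f).obj X :=
    ptSMap σ Algebra.TensorProduct.includeLeft ≫ E.x₀
  let x' : ptS σ (D ⊗[R] C₀) ⟶ P.X :=
    Over.homMk (pullback.lift x.left (ptS σ (D ⊗[R] C₀)).hom (by
      refine (congrArg CommaMorphism.left (E.good_const σ C₀).proj).trans ?_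
      have e : (Algebra.TensorProduct.includeRight : C₀ →ₐ[R] D ⊗[R] _).comp
          ((Algebra.ofId R _).comp z) = (Algebra.ofId R _).comp ((Algebra.ofId R R).comp z) :=
        AlgHom.ext fun c => (Algebra.TensorProduct.includeRight : C₀ →ₐ[R] D ⊗[R] _).commutes (z c)
      rw [e, ← ptSMap_av σ ε]
      show (ptSMap σ (Algebra.ofId R _)).left ≫ w₀.left =
        (Sp (algebraMap R _) ≫ σ.inv) ≫ σ.hom ≫ w₀.left
      rw [Category.assoc, Iso.inv_hom_id_assoc]
      rfl)) (pullback.lift_snd _ _ _)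
  let π₁ : (Over.map f).obj (Red.bc f P.X) ⟶ (Over.map f).obj X :=
    cu f P.X ≫ toId P.X ≫ pushMap X hk₀
  have hπ : ∀ {Z : Over A} (q : (Over.map f).obj Z ⟶ P.X),
      (Over.map f).map (he f Z P.X q) ≫ π₁ = q ≫ toId P.X ≫ pushMap X hk₀ := fun q =>
    (Category.assoc _ _ _).symm.trans (congrArg (· ≫ toId P.X ≫ pushMap X hk₀) (map_he_cu f q))
  refine E.equivIso_of_good σ hX.1 hy ε (NonAbH1.isPseudoTorsorSch_bc f P.isTorsor.1) hX.1 π₁ (𝟙 _)
    ?_ ?_ ?_ (he f (Over.mk b.left) P.X (dnB b ≫ x')) ?_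
    (Over.homMk y.left ((congrArg CommaMorphism.left hy.proj).trans ?_)) ?_
  · intro Z g q
    obtain ⟨g', rfl⟩ := (he f Z G).surjective g
    obtain ⟨q', rfl⟩ := (he f Z P.X).surjective q
    rw [AlgGrp.Action.lift_homEquiv_bc_act, hπ, hπ, Equiv.symm_apply_apply, ← Category.assoc,
      lift_restrict_toId, smul_pushMap, Category.assoc]
  · intro Z g q
    rw [Category.comp_id, Category.comp_id, map_act]
  · intro Z q q' h
    rw [Category.comp_id, Category.comp_id] at h
    exact Over.OverMorphism.ext (congrArg (fun m => m.left) h)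
  · rw [hπ, Category.assoc]
    congr 1
    apply Over.OverMorphism.ext
    show x'.left ≫ 𝟙 _ ≫ (pushMap X hk₀).left = x.left
    rw [pushMap_left]
    exact (congrArg (x'.left ≫ ·) (Category.id_comp _)).trans (pullback.lift_fst _ _ _)
  · show _ = b.left
    rw [AlgHom.comp_id]
  · exact Over.OverMorphism.ext ((Category.comp_id _).trans (Category.id_comp _).symm)

end Patch

end Groth.LoopPatch
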