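import Mathlib
import Groth.Prelude.Def_ActBC
import Groth.Agent.LocImm.Glue
import Groth.Agent.Pi1Tors.Points
import Groth.Agent.NeronArea.MappingDescent

/-!
Two torsors on two open pieces, isomorphic on the overlap, glue.
-/

set_option autoImplicit false
set_option backward.isDefEq.respectTransparency false

universe u

open CategoryTheory CategoryTheory.Limits MonoidalCategory CartesianMonoidalCategory MonObj GrpObj
open AlgebraicGeometry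

noncomputable section

attribute [local instance 10000] CategoryTheory.Hom.group
set_option synthInstance.maxHeartbeats 400000

namespace Groth.LoopPatch

variable {B : Scheme.{u}}

theorem isOpenImmersion_tensorHom_left {X X' Y Y' : Over B} (p : X ⟶ X') (q : Y ⟶ Y')
    [IsOpenImmersion p.left] [IsOpenImmersion q.left] : IsOpenImmersion (p ⊗ₘ q).left := by
  have e : (p ⊗ₘ q).left = pullback.map X.hom Y.hom X'.hom Y'.hom p.left q.left (𝟙 B)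
      (by rw [Category.comp_id, Over.w p]) (by rw [Category.comp_id, Over.w q]) := by
    apply pullback.hom_ext
    · exact (Over.tensorHom_left_fst _ _ _ _).trans (pullback.lift_fst _ _ _).symm
    · exact (Over.tensorHom_left_snd _ _ _ _).trans (pullback.lift_snd _ _ _).symm
  rw [e]
  infer_instance

theorem mem_range_tensorHom {X X' Y Y' : Over B} (p : X ⟶ X') (q : Y ⟶ Y')
    [IsOpenImmersion p.left] [IsOpenImmersion q.left] (x : (X' ⊗ Y').left)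
    (hx : pullback.fst X'.hom Y'.hom x ∈ Set.range p.left) (hy : pullback.snd X'.hom Y'.hom x ∈ Set.range q.left) :
    x ∈ Set.range (p ⊗ₘ q).left := by
  have e : (p ⊗ₘ q).left = pullback.map X.hom Y.hom X'.hom Y'.hom p.left q.left (𝟙 B)
      (by rw [Category.comp_id, Over.w p]) (by rw [Category.comp_id, Over.w q]) := by
    apply pullback.hom_ext
    · exact (Over.tensorHom_left_fst _ _ _ _).trans (pullback.lift_fst _ _ _).symm
    · exact (Over.tensorHom_left_snd _ _ _ _).trans (pullback.lift_snd _ _ _).symm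
  rw [e]
  exact (Scheme.Pullback.range_map _ _ _ _ _ _ _ _ _).symm.subset ⟨hx, hy⟩

section Two

variable {X U₁ U₂ : Over B} (u₁ : U₁ ⟶ X) (u₂ : U₂ ⟶ X) [IsOpenImmersion u₁.left] [IsOpenImmersion u₂.left]
  (h : ∀ x : X.left, x ∈ Set.range u₁.left ∨ x ∈ Set.range u₂.left)

include h in
theorem over_hom_ext_two {Y : Over B} {a b : X ⟶ Y} (h₁ : u₁ ≫ a = u₁ ≫ b) (h₂ : u₂ ≫ a = u₂ ≫ b) :
    a = b := by
  refine Over.OverMorphism.ext (Scheme.Cover.hom_ext (Groth.LocImmersion.coverTwo u₁.left u₂.left h) _ _ ?_)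
  rintro ⟨_ | _⟩
  · exact congrArg CommaMorphism.left h₂
  · exact congrArg CommaMorphism.left h₁

include h in
theorem over_exists_glue_two {Y : Over B} (a₁ : U₁ ⟶ Y) (a₂ : U₂ ⟶ Y)
    (hc : ∀ (T : Over B) (t₁ : T ⟶ U₁) (t₂ : T ⟶ U₂), t₁ ≫ u₁ = t₂ ≫ u₂ → t₁ ≫ a₁ = t₂ ≫ a₂) :
    ∃ a : X ⟶ Y, u₁ ≫ a = a₁ ∧ u₂ ≫ a = a₂ := by
  obtain ⟨a, ha₁, ha₂⟩ := Groth.LocImmersion.exists_glue u₁.left u₂.left h a₁.left a₂.left (by
    let T : Over B := Over.mk (pullback.fst u₁.left u₂.left ≫ U₁.hom)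
    let t₁ : T ⟶ U₁ := Over.homMk (pullback.fst u₁.left u₂.left) rfl
    let t₂ : T ⟶ U₂ := Over.homMk (pullback.snd u₁.left u₂.left) (by
      show pullback.snd u₁.left u₂.left ≫ U₂.hom = pullback.fst u₁.left u₂.left ≫ U₁.hom
      rw [← Over.w u₁, ← Over.w u₂, pullback.condition_assoc])
    exact congrArg CommaMorphism.left (hc T t₁ t₂ (Over.OverMorphism.ext pullback.condition)))
  have hw : a ≫ Y.hom = X.hom :=
    Scheme.Cover.hom_ext (Groth.LocImmersion.coverTwo u₁.left u₂.left h) _ _ (by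
      rintro ⟨_ | _⟩
      · show u₂.left ≫ a ≫ Y.hom = u₂.left ≫ X.hom
        rw [reassoc_of% ha₂, Over.w, Over.w]
      · show u₁.left ≫ a ≫ Y.hom = u₁.left ≫ X.hom
        rw [reassoc_of% ha₁, Over.w, Over.w])
  exact ⟨Over.homMk a hw, Over.OverMorphism.ext ha₁, Over.OverMorphism.ext ha₂⟩

end Two

section Torsor

variable {H Z₀ Z₁ W : Over B} [GrpObj H] (a₀ : AlgGrp.Action H Z₀) (a₁ : AlgGrp.Action H Z₁)
  (c : AlgGrp.Action H W) (g₀ : W ⟶ Z₀) (g₁ : W ⟶ Z₁) [IsOpenImmersion g₀.left] [IsOpenImmersion g₁.left]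

/-- The glued scheme. -/
abbrev glued : Over B :=
  Over.mk (pushout.desc Z₀.hom Z₁.hom (show g₀.left ≫ Z₀.hom = g₁.left ≫ Z₁.hom by rw [Over.w, Over.w]))

/-- The first piece. -/
abbrev gl₀ : Z₀ ⟶ glued g₀ g₁ := Over.homMk (pushout.inl g₀.left g₁.left) (pushout.inl_desc _ _ _)

/-- The second piece. -/
abbrev gl₁ : Z₁ ⟶ glued g₀ g₁ := Over.homMk (pushout.inr g₀.left g₁.left) (pushout.inr_desc _ _ _)

theorem glued_condition : g₀ ≫ gl₀ g₀ g₁ = g₁ ≫ gl₁ g₀ g₁ := Over.OverMorphism.ext pushout.condition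

theorem glued_cover (y : (glued g₀ g₁).left) :
    y ∈ Set.range (gl₀ g₀ g₁).left ∨ y ∈ Set.range (gl₁ g₀ g₁).left :=
  Groth.LocImmersion.mem_range_inl_or_inr g₀.left g₁.left y

theorem exists_overlap {T : Over B} (z₀ : T ⟶ Z₀) (z₁ : T ⟶ Z₁) (h : z₀ ≫ gl₀ g₀ g₁ = z₁ ≫ gl₁ g₀ g₁) :
    ∃ w : T ⟶ W, w ≫ g₀ = z₀ ∧ w ≫ g₁ = z₁ := by
  have hr : Set.range z₀.left ⊆ Set.range g₀.left := by
    rintro _ ⟨x, rfl⟩
    have e : pushout.inl g₀.left g₁.left (z₀.left x) = pushout.inr g₀.left g₁.left (z₁.left x) := by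
      rw [← Scheme.Hom.comp_apply, ← Scheme.Hom.comp_apply]
      exact congrArg (fun φ : T.left ⟶ pushout g₀.left g₁.left => φ x) (congrArg CommaMorphism.left h)
    obtain ⟨w, hw, -⟩ := Groth.LocImmersion.exists_of_inl_eq_inr g₀.left g₁.left e
    exact ⟨w, hw⟩
  let w : T ⟶ W := Over.homMk (IsOpenImmersion.lift g₀.left z₀.left hr) (by
    rw [← Over.w g₀, IsOpenImmersion.lift_fac_assoc, Over.w])
  have hw₀ : w ≫ g₀ = z₀ := Over.OverMorphism.ext (IsOpenImmersion.lift_fac _ _ _)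
  refine ⟨w, hw₀, ?_⟩
  rw [← cancel_mono (gl₁ g₀ g₁), Category.assoc, ← glued_condition, ← Category.assoc, hw₀, h]

variable {a₀ a₁ c g₀ g₁}

theorem exists_torsor_glue (U₀ U₁ : B.Opens) (hU₀ : ∀ z, Z₀.hom z ∈ U₀) (hU₁ : ∀ z, Z₁.hom z ∈ U₁)
    (hg₀ : ∀ z, Z₀.hom z ∈ U₁ → z ∈ Set.range g₀.left) (hg₁ : ∀ z, Z₁.hom z ∈ U₀ → z ∈ Set.range g₁.left)
    (ha₀ : NonAbH1.IsPseudoTorsorSch a₀) (ha₁ : NonAbH1.IsPseudoTorsorSch a₁)
    (he₀ : ∀ (T : Over B) (h : T ⟶ H) (w : T ⟶ W), lift h (w ≫ g₀) ≫ a₀.act = lift h w ≫ c.act ≫ g₀)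
    (he₁ : ∀ (T : Over B) (h : T ⟶ H) (w : T ⟶ W), lift h (w ≫ g₁) ≫ a₁.act = lift h w ≫ c.act ≫ g₁) :
    ∃ b : AlgGrp.Action H (glued g₀ g₁), NonAbH1.IsPseudoTorsorSch b ∧
      (∀ (T : Over B) (h : T ⟶ H) (z : T ⟶ Z₀),
        lift h (z ≫ gl₀ g₀ g₁) ≫ b.act = lift h z ≫ a₀.act ≫ gl₀ g₀ g₁) ∧
      (∀ (T : Over B) (h : T ⟶ H) (z : T ⟶ Z₁),
        lift h (z ≫ gl₁ g₀ g₁) ≫ b.act = lift h z ≫ a₁.act ≫ gl₁ g₀ g₁) := by
  let i₀ := gl₀ g₀ g₁
  let i₁ := gl₁ g₀ g₁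
  haveI : IsOpenImmersion i₀.left := Groth.LocImmersion.inl_isOpenImmersion g₀.left g₁.left
  haveI : IsOpenImmersion i₁.left := Groth.LocImmersion.inr_isOpenImmersion g₀.left g₁.left
  haveI : Mono g₀ := Over.mono_of_mono_left g₀
  haveI : IsOpenImmersion (𝟙 H : H ⟶ H).left := inferInstanceAs (IsOpenImmersion (𝟙 H.left))
  haveI : IsOpenImmersion (𝟙 (H ⊗ H) : H ⊗ H ⟶ H ⊗ H).left := inferInstanceAs (IsOpenImmersion (𝟙 (H ⊗ H).left))
  -- the cover of a product with the glued scheme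
  have cov : ∀ (K : Over B) [IsOpenImmersion (𝟙 K : K ⟶ K).left] (x : (K ⊗ glued g₀ g₁).left),
      x ∈ Set.range (𝟙 K ⊗ₘ i₀).left ∨ x ∈ Set.range (𝟙 K ⊗ₘ i₁).left := by
    intro K _ x
    rcases glued_cover g₀ g₁ (pullback.snd K.hom (glued g₀ g₁).hom x) with h | h
    · exact Or.inl (mem_range_tensorHom _ _ x ⟨_, rfl⟩ h)
    · exact Or.inr (mem_range_tensorHom _ _ x ⟨_, rfl⟩ h)
  haveI := fun (K : Over B) [IsOpenImmersion (𝟙 K : K ⟶ K).left] => isOpenImmersion_tensorHom_left (𝟙 K) i₀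
  haveI := fun (K : Over B) [IsOpenImmersion (𝟙 K : K ⟶ K).left] => isOpenImmersion_tensorHom_left (𝟙 K) i₁
  obtain ⟨act, hact₀, hact₁⟩ := over_exists_glue_two (𝟙 H ⊗ₘ i₀) (𝟙 H ⊗ₘ i₁) (cov H) (a₀.act ≫ i₀)
    (a₁.act ≫ i₁) (fun T t₀ t₁ ht => by
      have h1 := congrArg (· ≫ fst _ _) ht
      have h2 := congrArg (· ≫ snd _ _) ht
      simp only [Category.assoc, tensorHom_fst, tensorHom_snd, Category.comp_id] at h1 h2
      rw [← Category.assoc t₀, ← Category.assoc t₁] at h2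
      obtain ⟨w, hw₀, hw₁⟩ := exists_overlap g₀ g₁ _ _ h2
      have e₀ : t₀ = lift (t₀ ≫ fst _ _) (w ≫ g₀) := by rw [hw₀, ← comp_lift, lift_fst_snd, Category.comp_id]
      have e₁ : t₁ = lift (t₀ ≫ fst _ _) (w ≫ g₁) := by rw [h1, hw₁, ← comp_lift, lift_fst_snd, Category.comp_id]
      rw [e₀, e₁, ← Category.assoc, ← Category.assoc, he₀, he₁, Category.assoc, Category.assoc, Category.assoc,
        Category.assoc, glued_condition])
  have hp₀ : ∀ (T : Over B) (h : T ⟶ H) (z : T ⟶ Z₀), lift h (z ≫ i₀) ≫ act = lift h z ≫ a₀.act ≫ i₀ := by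
    intro T h z
    rw [← hact₀, ← Category.assoc, lift_map, Category.comp_id]
  have hp₁ : ∀ (T : Over B) (h : T ⟶ H) (z : T ⟶ Z₁), lift h (z ≫ i₁) ≫ act = lift h z ≫ a₁.act ≫ i₁ := by
    intro T h z
    rw [← hact₁, ← Category.assoc, lift_map, Category.comp_id]
  let b : AlgGrp.Action H (glued g₀ g₁) :=
    { act := act
      one_act := by
        haveI : IsOpenImmersion (𝟙 (𝟙_ (Over B)) : 𝟙_ (Over B) ⟶ 𝟙_ (Over B)).left :=
          inferInstanceAs (IsOpenImmersion (𝟙 B))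
        refine over_hom_ext_two (𝟙 (𝟙_ (Over B)) ⊗ₘ i₀) (𝟙 (𝟙_ (Over B)) ⊗ₘ i₁) (cov _) ?_ ?_
        · rw [id_tensorHom, leftUnitor_naturality, whisker_exchange_assoc, ← id_tensorHom, hact₀,
            ← Category.assoc, a₀.one_act]
        · rw [id_tensorHom, leftUnitor_naturality, whisker_exchange_assoc, ← id_tensorHom, hact₁,
            ← Category.assoc, a₁.one_act]
      mul_act := by
        have pts : ∀ (Z : Over B) (a : AlgGrp.Action H Z) (i : Z ⟶ glued g₀ g₁),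
            (∀ (T : Over B) (h : T ⟶ H) (z : T ⟶ Z), lift h (z ≫ i) ≫ act = lift h z ≫ a.act ≫ i) →
            (𝟙 (H ⊗ H) ⊗ₘ i) ≫ (μ[H] ▷ glued g₀ g₁) ≫ act =
              (𝟙 (H ⊗ H) ⊗ₘ i) ≫ (α_ H H (glued g₀ g₁)).hom ≫ (H ◁ act) ≫ act := by
          intro Z a i hp
          let h' := fst (H ⊗ H) Z ≫ fst H H
          let h'' := fst (H ⊗ H) Z ≫ snd H H
          let z := snd (H ⊗ H) Z
          have e : (𝟙 (H ⊗ H) ⊗ₘ i) = lift (lift h' h'') (z ≫ i) := by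
            rw [← comp_lift, lift_fst_snd, Category.comp_id]
            apply CartesianMonoidalCategory.hom_ext
            · rw [tensorHom_fst, lift_fst, Category.comp_id]
            · rw [tensorHom_snd, lift_snd]
          rw [e, lift_whiskerRight_assoc, lift_lift_associator_hom_assoc, lift_whiskerLeft_assoc, hp, ← Category.assoc,
            hp, ← Category.assoc, hp, ← Category.assoc (lift h' _) a.act, ← Hom.mul_def, a.lift_mul_act]
        exact over_hom_ext_two (𝟙 (H ⊗ H) ⊗ₘ i₀) (𝟙 (H ⊗ H) ⊗ₘ i₁) (cov _) (pts Z₀ a₀ i₀ hp₀) (pts Z₁ a₁ i₁ hp₁) }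
  refine ⟨b, ?_, hp₀, hp₁⟩
  -- the difference map
  let d₀ := Groth.NeronArea.torsorDiv a₀ ha₀ (fst Z₀ Z₀) (snd Z₀ Z₀)
  let d₁ := Groth.NeronArea.torsorDiv a₁ ha₁ (fst Z₁ Z₁) (snd Z₁ Z₁)
  haveI := isOpenImmersion_tensorHom_left i₀ i₀
  haveI := isOpenImmersion_tensorHom_left i₁ i₁
  have covY : ∀ x : (glued g₀ g₁ ⊗ glued g₀ g₁).left,
      x ∈ Set.range (i₀ ⊗ₘ i₀).left ∨ x ∈ Set.range (i₁ ⊗ₘ i₁).left := by
    intro x
    let y := pullback.fst (glued g₀ g₁).hom (glued g₀ g₁).hom x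
    let y' := pullback.snd (glued g₀ g₁).hom (glued g₀ g₁).hom x
    have hyy : (glued g₀ g₁).hom y = (glued g₀ g₁).hom y' := by
      rw [← Scheme.Hom.comp_apply, pullback.condition, Scheme.Hom.comp_apply]
    have hZ₀ : ∀ z, (glued g₀ g₁).hom (i₀.left z) = Z₀.hom z := fun z => by
      rw [← Scheme.Hom.comp_apply, Over.w i₀]
    have hZ₁ : ∀ z, (glued g₀ g₁).hom (i₁.left z) = Z₁.hom z := fun z => by
      rw [← Scheme.Hom.comp_apply, Over.w i₁]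
    have hc : ∀ v, i₀.left (g₀.left v) = i₁.left (g₁.left v) := fun v => by
      rw [← Scheme.Hom.comp_apply, ← Scheme.Hom.comp_apply]
      exact congrArg (fun φ : W ⟶ glued g₀ g₁ => φ.left v) (glued_condition g₀ g₁)
    rcases glued_cover g₀ g₁ y with ⟨z, hz⟩ | ⟨z, hz⟩ <;> rcases glued_cover g₀ g₁ y' with ⟨z', hz'⟩ | ⟨z', hz'⟩
    · exact Or.inl (mem_range_tensorHom _ _ x ⟨z, hz⟩ ⟨z', hz'⟩)
    · obtain ⟨v, rfl⟩ := hg₁ z' (by rw [← hZ₁, hz', ← hyy, ← hz, hZ₀]; exact hU₀ z)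
      exact Or.inl (mem_range_tensorHom _ _ x ⟨z, hz⟩ ⟨g₀.left v, (hc v).trans hz'⟩)
    · obtain ⟨v, rfl⟩ := hg₀ z' (by rw [← hZ₀, hz', ← hyy, ← hz, hZ₁]; exact hU₁ z)
      exact Or.inr (mem_range_tensorHom _ _ x ⟨z, hz⟩ ⟨g₁.left v, (hc v).symm.trans hz'⟩)
    · exact Or.inr (mem_range_tensorHom _ _ x ⟨z, hz⟩ ⟨z', hz'⟩)
  obtain ⟨d, hd₀, hd₁⟩ := over_exists_glue_two (i₀ ⊗ₘ i₀) (i₁ ⊗ₘ i₁) covY d₀ d₁ (fun T t₀ t₁ ht => by
    have h1 := congrArg (· ≫ fst _ _) ht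
    have h2 := congrArg (· ≫ snd _ _) ht
    simp only [Category.assoc, tensorHom_fst, tensorHom_snd] at h1 h2
    rw [← Category.assoc t₀, ← Category.assoc t₁] at h1 h2
    obtain ⟨v, hv₀, hv₁⟩ := exists_overlap g₀ g₁ _ _ h1
    obtain ⟨v', hv'₀, hv'₁⟩ := exists_overlap g₀ g₁ _ _ h2
    have e : lift (t₀ ≫ d₀) v' ≫ c.act = v := by
      have := congrArg (t₀ ≫ ·) (Groth.NeronArea.torsorDiv_act a₀ ha₀ (fst Z₀ Z₀) (snd Z₀ Z₀))
      rw [comp_lift_assoc, ← hv₀, ← hv'₀, he₀, ← Category.assoc, cancel_mono] at this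
      exact this
    refine Groth.NeronArea.torsor_cancel a₁ ha₁ _ _ (t₁ ≫ snd _ _) ?_
    rw [← comp_lift_assoc, Groth.NeronArea.torsorDiv_act, ← hv'₁, he₁, ← Category.assoc, e, hv₁])
  refine ⟨⟨lift d (snd _ _), ?_, ?_⟩⟩
  · have pts : ∀ (Z : Over B) (a : AlgGrp.Action H Z) (ha : NonAbH1.IsPseudoTorsorSch a) (i : Z ⟶ glued g₀ g₁),
        (∀ (T : Over B) (h : T ⟶ H) (z : T ⟶ Z), lift h (z ≫ i) ≫ act = lift h z ≫ a.act ≫ i) →
        (i ⊗ₘ i) ≫ d = Groth.NeronArea.torsorDiv a ha (fst Z Z) (snd Z Z) →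
        (𝟙 H ⊗ₘ i) ≫ lift act (snd H _) ≫ d = (𝟙 H ⊗ₘ i) ≫ fst H _ := by
      intro Z a ha i hp hd
      have e : (𝟙 H ⊗ₘ i) = lift (fst H Z) (snd H Z ≫ i) := by
        apply CartesianMonoidalCategory.hom_ext <;> simp
      rw [e, lift_fst, comp_lift_assoc, hp, lift_snd, ← Category.assoc, ← lift_map, Category.assoc, hd]
      refine Groth.NeronArea.torsor_cancel a ha _ _ (snd H Z) ?_
      have := congrArg (lift (lift (fst H Z) (snd H Z) ≫ a.act) (snd H Z) ≫ ·)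
        (Groth.NeronArea.torsorDiv_act a ha (fst Z Z) (snd Z Z))
      rw [comp_lift_assoc, lift_snd, lift_fst] at this
      exact this
    have key := over_hom_ext_two (𝟙 H ⊗ₘ i₀) (𝟙 H ⊗ₘ i₁) (cov H) (pts Z₀ a₀ ha₀ i₀ hp₀ hd₀) (pts Z₁ a₁ ha₁ i₁ hp₁ hd₁)
    rw [comp_lift, key, lift_snd, lift_fst_snd]
  · have pts : ∀ (Z : Over B) (a : AlgGrp.Action H Z) (ha : NonAbH1.IsPseudoTorsorSch a) (i : Z ⟶ glued g₀ g₁),
        (∀ (T : Over B) (h : T ⟶ H) (z : T ⟶ Z), lift h (z ≫ i) ≫ act = lift h z ≫ a.act ≫ i) →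
        (i ⊗ₘ i) ≫ d = Groth.NeronArea.torsorDiv a ha (fst Z Z) (snd Z Z) →
        (i ⊗ₘ i) ≫ lift d (snd _ _) ≫ act = (i ⊗ₘ i) ≫ fst _ _ := by
      intro Z a ha i hp hd
      rw [comp_lift_assoc, hd, tensorHom_snd, hp, ← Category.assoc, Groth.NeronArea.torsorDiv_act, tensorHom_fst]
    have key := over_hom_ext_two (i₀ ⊗ₘ i₀) (i₁ ⊗ₘ i₁) covY (pts Z₀ a₀ ha₀ i₀ hp₀ hd₀) (pts Z₁ a₁ ha₁ i₁ hp₁ hd₁)
    rw [comp_lift, key, lift_snd, lift_fst_snd]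

end Torsor

end Groth.LoopPatch
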