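import Mathlib
import Groth.Agent.LoopPatch.GlueTorsor

/-!
A torsor glued from a given one and the trivial one along a section over the overlap.
-/

set_option autoImplicit false
set_option backward.isDefEq.respectTransparency false

universe u

open CategoryTheory CategoryTheory.Limits MonoidalCategory CartesianMonoidalCategory MonObj GrpObj
open AlgebraicGeometry

noncomputable section

attribute [local instance 10000] CategoryTheory.Hom.group
set_option synthInstance.maxHeartbeats 400000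

namespace Groth.LoopPatch

variable {B : Scheme.{u}} {H Q : Over B} [GrpObj H] (a : AlgGrp.Action H Q) (V : Over B)

/-- The action on the first factor of a product. -/
def prodAct : AlgGrp.Action H (Q ⊗ V) where
  act := lift (H ◁ fst Q V ≫ a.act) (snd H (Q ⊗ V) ≫ snd Q V)
  one_act := by
    apply CartesianMonoidalCategory.hom_ext
    · rw [Category.assoc, lift_fst, ← whisker_exchange_assoc, a.one_act, leftUnitor_naturality]
    · rw [Category.assoc, lift_snd, whiskerRight_snd_assoc, leftUnitor_hom]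
  mul_act := by
    apply AlgGrp.Action.hom_ext_lift₃
    intro T h h' x
    rw [lift_whiskerRight_assoc, ← Hom.mul_def, lift_lift_associator_hom_assoc, lift_whiskerLeft_assoc,
      comp_lift, comp_lift, comp_lift, lift_whiskerLeft_assoc, lift_whiskerLeft_assoc, lift_whiskerLeft_assoc]
    simp only [lift_fst, lift_snd_assoc, lift_snd]
    rw [a.lift_mul_act]

theorem lift_prodAct {T : Over B} (h : T ⟶ H) (x : T ⟶ Q ⊗ V) :
    lift h x ≫ (prodAct a V).act = lift (lift h (x ≫ fst Q V) ≫ a.act) (x ≫ snd Q V) := by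
  show lift h x ≫ lift _ _ = _
  rw [comp_lift, lift_whiskerLeft_assoc, lift_snd_assoc]

theorem isPseudoTorsorSch_prodAct [Mono V.hom] (ha : NonAbH1.IsPseudoTorsorSch a) :
    NonAbH1.IsPseudoTorsorSch (prodAct a V) := by
  refine Groth.Pi1Tors.isPseudoTorsor_of_points (a := prodAct a V) (fun T x y => ?_) fun T g g' x h => ?_
  · refine ⟨Groth.NeronArea.torsorDiv a ha (x ≫ fst Q V) (y ≫ fst Q V), ?_⟩
    show lift _ y ≫ (prodAct a V).act = x
    rw [lift_prodAct, Groth.NeronArea.torsorDiv_act]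
    apply CartesianMonoidalCategory.hom_ext
    · rw [lift_fst]
    · rw [lift_snd]
      exact Over.OverMorphism.ext ((cancel_mono V.hom).1 ((Over.w _).trans (Over.w _).symm))
  · have h' : lift g x ≫ (prodAct a V).act = lift g' x ≫ (prodAct a V).act := h
    rw [lift_prodAct, lift_prodAct] at h'
    exact Groth.NeronArea.torsor_cancel a ha _ _ _ (by simpa using congrArg (· ≫ fst Q V) h')

/-- Sections on an open piece are local sections. -/
theorem isLocallyTrivialFor_of_points {Y : Over B}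
    (h : ∀ b : B, ∃ (W : Scheme.{u}) (v : W ⟶ B), Flat v ∧ LocallyOfFinitePresentation v ∧
      b ∈ Set.range v ∧ NonAbH1.HasSectionOver Y v) :
    NonAbH1.IsLocallyTrivialFor Scheme.fppfPrecoverage Y := by
  choose W v hv hv' hb hs using h
  refine ⟨Presieve.ofArrows W v, ?_, ?_⟩
  · show Presieve.ofArrows W v ∈ Scheme.precoverage _ B
    rw [Scheme.ofArrows_mem_precoverage_iff]
    exact ⟨fun b => ⟨b, hb b⟩, fun b => ⟨hv b, hv' b⟩⟩
  · rintro _ _ ⟨b⟩
    exact hs b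

theorem exists_glue_trivial (hQ : NonAbH1.IsTorsorFor Scheme.fppfPrecoverage a) {V₀ V₁ V₀₁ : Over B}
    [IsOpenImmersion V₀.hom] [IsOpenImmersion V₁.hom] [IsOpenImmersion V₀₁.hom]
    (i₀ : V₀₁ ⟶ V₀) (i₁ : V₀₁ ⟶ V₁) (hcov : ∀ b : B, b ∈ Set.range V₀.hom ∨ b ∈ Set.range V₁.hom)
    (hint : ∀ b : B, b ∈ Set.range V₀.hom → b ∈ Set.range V₁.hom → b ∈ Set.range V₀₁.hom)
    (s : V₀₁ ⟶ Q) :
    ∃ (Y : Over B) (b : AlgGrp.Action H Y), NonAbH1.IsTorsorFor Scheme.fppfPrecoverage b ∧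
      Nonempty (V₁ ⟶ Y) ∧
      ∀ (T : Over B) (_ : T ⟶ Y), Set.range T.hom ⊆ Set.range V₀.hom → Nonempty (T ⟶ Q) := by
  haveI : IsOpenImmersion i₀.left := by
    haveI : IsOpenImmersion (i₀.left ≫ V₀.hom) := by rw [Over.w i₀]; infer_instance
    exact IsOpenImmersion.of_comp i₀.left V₀.hom
  haveI : IsOpenImmersion i₁.left := by
    haveI : IsOpenImmersion (i₁.left ≫ V₁.hom) := by rw [Over.w i₁]; infer_instance
    exact IsOpenImmersion.of_comp i₁.left V₁.hom
  haveI : IsOpenImmersion (𝟙 Q : Q ⟶ Q).left := inferInstanceAs (IsOpenImmersion (𝟙 Q.left))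
  haveI : IsOpenImmersion (𝟙 H : H ⟶ H).left := inferInstanceAs (IsOpenImmersion (𝟙 H.left))
  let ψ : H ⊗ V₀₁ ⟶ Q ⊗ V₀₁ := lift (lift (fst H V₀₁) (snd H V₀₁ ≫ s) ≫ a.act) (snd H V₀₁)
  let ψ' : Q ⊗ V₀₁ ⟶ H ⊗ V₀₁ :=
    lift (Groth.NeronArea.torsorDiv a hQ.1 (fst Q V₀₁) (snd Q V₀₁ ≫ s)) (snd Q V₀₁)
  haveI : IsIso ψ := by
    refine ⟨ψ', ?_, ?_⟩
    · apply CartesianMonoidalCategory.hom_ext
      · rw [Category.assoc, lift_fst, Category.id_comp]
        refine Groth.NeronArea.torsor_cancel a hQ.1 _ _ (snd H V₀₁ ≫ s) ?_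
        have e := congrArg (ψ ≫ ·) (Groth.NeronArea.torsorDiv_act a hQ.1 (fst Q V₀₁) (snd Q V₀₁ ≫ s))
        simp only [comp_lift_assoc, ψ, lift_fst, lift_snd_assoc] at e
        exact e
      · rw [Category.assoc, lift_snd, lift_snd, Category.id_comp]
    · apply CartesianMonoidalCategory.hom_ext
      · rw [Category.assoc, lift_fst, Category.id_comp, comp_lift_assoc, lift_fst, lift_snd_assoc,
          Groth.NeronArea.torsorDiv_act]
      · rw [Category.assoc, lift_snd, lift_snd, Category.id_comp]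
  let g₀ : H ⊗ V₀₁ ⟶ Q ⊗ V₀ := ψ ≫ (𝟙 Q ⊗ₘ i₀)
  let g₁ : H ⊗ V₀₁ ⟶ H ⊗ V₁ := 𝟙 H ⊗ₘ i₁
  haveI : IsIso ψ.left := inferInstanceAs (IsIso ((Over.forget B).map ψ))
  haveI := isOpenImmersion_tensorHom_left (𝟙 Q) i₀
  haveI : IsOpenImmersion g₀.left := inferInstanceAs (IsOpenImmersion (ψ.left ≫ (𝟙 Q ⊗ₘ i₀).left))
  haveI : IsOpenImmersion g₁.left := isOpenImmersion_tensorHom_left (𝟙 H) i₁
  haveI : Mono V₀.hom := inferInstance
  haveI : Mono V₁.hom := inferInstance
  have hloc₀ : ∀ z : (Q ⊗ V₀).left, (Q ⊗ V₀).hom z ∈ Set.range V₀.hom := fun z => by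
    refine ⟨pullback.snd Q.hom V₀.hom z, ?_⟩
    rw [← Scheme.Hom.comp_apply, ← pullback.condition]
    rfl
  have hloc₁ : ∀ z : (H ⊗ V₁).left, (H ⊗ V₁).hom z ∈ Set.range V₁.hom := fun z => by
    refine ⟨pullback.snd H.hom V₁.hom z, ?_⟩
    rw [← Scheme.Hom.comp_apply, ← pullback.condition]
    rfl
  have hr₀ : ∀ z : (Q ⊗ V₀).left, (Q ⊗ V₀).hom z ∈ Set.range V₁.hom → z ∈ Set.range g₀.left := by
    intro z hz
    obtain ⟨v, hv⟩ := hint _ (hloc₀ z) hz
    have hv' : i₀.left v = pullback.snd Q.hom V₀.hom z := V₀.hom.isOpenEmbedding.injective (by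
      rw [← Scheme.Hom.comp_apply, Over.w i₀, hv, ← Scheme.Hom.comp_apply, ← pullback.condition]
      rfl)
    obtain ⟨w, hw⟩ := mem_range_tensorHom (𝟙 Q) i₀ z ⟨_, rfl⟩ ⟨v, hv'⟩
    exact ⟨(inv ψ.left) w, by
      show (inv ψ.left ≫ ψ.left ≫ (𝟙 Q ⊗ₘ i₀).left) w = z
      rw [IsIso.inv_hom_id_assoc]; exact hw⟩
  have hr₁ : ∀ z : (H ⊗ V₁).left, (H ⊗ V₁).hom z ∈ Set.range V₀.hom → z ∈ Set.range g₁.left := by
    intro z hz
    obtain ⟨v, hv⟩ := hint _ hz (hloc₁ z)
    have hv' : i₁.left v = pullback.snd H.hom V₁.hom z := V₁.hom.isOpenEmbedding.injective (by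
      rw [← Scheme.Hom.comp_apply, Over.w i₁, hv, ← Scheme.Hom.comp_apply, ← pullback.condition]
      rfl)
    exact mem_range_tensorHom (𝟙 H) i₁ z ⟨_, rfl⟩ ⟨v, hv'⟩
  obtain ⟨b, hb, -, -⟩ := exists_torsor_glue (a₀ := prodAct a V₀) (a₁ := prodAct (NonAbH1.trivialAction H) V₁)
    (c := prodAct (NonAbH1.trivialAction H) V₀₁) (g₀ := g₀) (g₁ := g₁) V₀.hom.opensRange V₁.hom.opensRange
    hloc₀ hloc₁ hr₀ hr₁ (isPseudoTorsorSch_prodAct a V₀ hQ.1)
    (isPseudoTorsorSch_prodAct _ V₁ (NonAbH1.isPseudoTorsorSch_trivialAction H))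
    (fun T h w => by
      rw [← Category.assoc (lift h w), lift_prodAct, lift_prodAct]
      apply CartesianMonoidalCategory.hom_ext
      · simp only [g₀, ψ, Category.assoc, lift_fst, tensorHom_fst, Category.comp_id, comp_lift_assoc, lift_snd_assoc]
        show _ = lift (lift h (w ≫ fst H V₀₁) ≫ μ[H]) _ ≫ a.act
        rw [← Hom.mul_def, a.lift_mul_act]
      · simp only [g₀, ψ, Category.assoc, lift_snd, tensorHom_snd, lift_snd_assoc])
    (fun T h w => by
      rw [← Category.assoc (lift h w), lift_prodAct, lift_prodAct]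
      apply CartesianMonoidalCategory.hom_ext
      · simp only [g₁, Category.assoc, lift_fst, tensorHom_fst, Category.comp_id]
      · simp only [g₁, Category.assoc, lift_snd, tensorHom_snd, lift_snd_assoc])
  let y₁ : V₁ ⟶ glued g₀ g₁ := lift (1 : V₁ ⟶ H) (𝟙 V₁) ≫ gl₁ g₀ g₁
  refine ⟨_, b, ⟨hb, isLocallyTrivialFor_of_points fun p => ?_⟩, ⟨y₁⟩, fun T y hT => ?_⟩
  · rcases hcov p with ⟨v, rfl⟩ | hp
    · obtain ⟨Rc, hR, hsec⟩ := hQ.2
      obtain ⟨Z, k, hk, z, hz⟩ := hR.1 (V₀.hom v)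
      obtain @⟨Z', k', hk'⟩ := hk
      obtain ⟨h1, h2⟩ := hR.2 hk'
      haveI : Flat k' := h1
      haveI : LocallyOfFinitePresentation k' := h2
      obtain ⟨q, hq⟩ := hsec k' hk'
      let T : Over B := Over.mk (pullback.fst k' V₀.hom ≫ k')
      let t : T ⟶ Q ⊗ V₀ := lift (Over.homMk (pullback.fst k' V₀.hom ≫ q) (by
          show (pullback.fst k' V₀.hom ≫ q) ≫ Q.hom = _
          rw [Category.assoc, hq]; rfl))
        (Over.homMk (pullback.snd k' V₀.hom) pullback.condition.symm)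
      refine ⟨_, pullback.fst k' V₀.hom ≫ k', inferInstance, inferInstance, ?_,
        (t ≫ gl₀ g₀ g₁).left, Over.w (t ≫ gl₀ g₀ g₁)⟩
      obtain ⟨w, hw₁, -⟩ := Scheme.Pullback.exists_preimage_pullback z v hz
      exact ⟨w, by rw [Scheme.Hom.comp_apply, hw₁]; exact hz⟩
    · exact ⟨_, V₁.hom, inferInstance, inferInstance, hp, y₁.left, Over.w y₁⟩
  · have hr : Set.range y.left ⊆ Set.range (gl₀ g₀ g₁).left := by
      rintro _ ⟨x, rfl⟩
      rcases glued_cover g₀ g₁ (y.left x) with h | ⟨z, hz⟩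
      · exact h
      · have hz' : (H ⊗ V₁).hom z ∈ Set.range V₀.hom := by
          rw [← Over.w (gl₁ g₀ g₁), Scheme.Hom.comp_apply, hz, ← Scheme.Hom.comp_apply, Over.w y]
          exact hT ⟨x, rfl⟩
        obtain ⟨w, rfl⟩ := hr₁ z hz'
        refine ⟨g₀.left w, ?_⟩
        rw [← hz]
        show (g₀ ≫ gl₀ g₀ g₁).left w = (g₁ ≫ gl₁ g₀ g₁).left w
        rw [glued_condition]
    haveI : IsOpenImmersion (gl₀ g₀ g₁).left := Groth.LocImmersion.inl_isOpenImmersion g₀.left g₁.left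
    exact ⟨Over.homMk (IsOpenImmersion.lift (gl₀ g₀ g₁).left y.left hr) (by
      rw [← Over.w (gl₀ g₀ g₁), IsOpenImmersion.lift_fac_assoc, Over.w]) ≫ fst Q V₀⟩

end Groth.LoopPatch
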