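import Mathlib

/-!
A morphism from the spectrum of a localisation to a scheme locally of finite presentation comes from
a localisation away from one element.
-/

set_option autoImplicit false

universe u

open CategoryTheory CategoryTheory.Limits AlgebraicGeometry Opposite

noncomputable section

namespace Groth.LoopPatch

variable {P : Type u} [CommRing P] (N : Submonoid P)

/-- The elements of a submonoid, ordered by divisibility. -/
structure LocIx : Type u where
  /-- the element -/
  val : P
  mem : val ∈ N

instance : Preorder (LocIx N) where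
  le i j := i.val ∣ j.val
  le_refl i := dvd_refl i.val
  le_trans _ _ _ := dvd_trans

instance : Nonempty (LocIx N) := ⟨⟨1, N.one_mem⟩⟩

instance : IsDirectedOrder (LocIx N) :=
  ⟨fun i j => ⟨⟨i.val * j.val, N.mul_mem i.mem j.mem⟩, dvd_mul_right _ _, dvd_mul_left _ _⟩⟩

theorem isUnit_of_le {i j : LocIx N} (h : i ≤ j) :
    IsUnit (algebraMap P (Localization.Away j.val) i.val) :=
  isUnit_of_dvd_unit (map_dvd _ h) (IsLocalization.Away.algebraMap_isUnit j.val)

/-- The transition map. -/
def locTrans {i j : LocIx N} (h : i ≤ j) : Localization.Away i.val →+* Localization.Away j.val :=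
  IsLocalization.Away.lift i.val (isUnit_of_le N h)

theorem locTrans_comp {i j : LocIx N} (h : i ≤ j) :
    (locTrans N h).comp (algebraMap P (Localization.Away i.val)) = algebraMap P _ :=
  IsLocalization.Away.lift_comp _ _

theorem locHom_ext {i : LocIx N} {T : Type u} [CommRing T] {φ ψ : Localization.Away i.val →+* T}
    (h : φ.comp (algebraMap P _) = ψ.comp (algebraMap P _)) : φ = ψ :=
  IsLocalization.ringHom_ext (Submonoid.powers i.val) h

/-- The system of localisations away from the elements. -/
def locFunctor : LocIx N ⥤ CommRingCat.{u} where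
  obj i := CommRingCat.of (Localization.Away i.val)
  map {i j} f := CommRingCat.ofHom (locTrans N (leOfHom f))
  map_id i := CommRingCat.hom_ext (locHom_ext N (by
    simp only [CommRingCat.hom_id, CommRingCat.hom_ofHom]
    rw [locTrans_comp, RingHom.id_comp]))
  map_comp {i j k} f g := CommRingCat.hom_ext (locHom_ext N (by
    simp only [CommRingCat.hom_comp, CommRingCat.hom_ofHom]
    rw [locTrans_comp, RingHom.comp_assoc, locTrans_comp, locTrans_comp]))

variable (L : Type u) [CommRing L] [Algebra P L] [IsLocalization N L]

/-- The map to the localisation. -/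
def locMap (i : LocIx N) : Localization.Away i.val →+* L :=
  IsLocalization.Away.lift i.val (IsLocalization.map_units L ⟨i.val, i.mem⟩)

theorem locMap_comp (i : LocIx N) : (locMap N L i).comp (algebraMap P _) = algebraMap P L :=
  IsLocalization.Away.lift_comp _ _

/-- The localisation as a cocone. -/
def locCocone : Cocone (locFunctor N) where
  pt := CommRingCat.of L
  ι :=
    { app := fun i => CommRingCat.ofHom (locMap N L i)
      naturality := fun i j f => CommRingCat.hom_ext (locHom_ext N (by
        show ((locMap N L j).comp (locTrans N (leOfHom f))).comp _ = ((RingHom.id L).comp (locMap N L i)).comp _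
        rw [RingHom.comp_assoc, locTrans_comp, locMap_comp, RingHom.id_comp, locMap_comp])) }

/-- The localisation is the colimit. -/
def locCoconeIsColimit : IsColimit (locCocone N L) := by
  let one : LocIx N := ⟨1, N.one_mem⟩
  have key : ∀ (s : Cocone (locFunctor N)) (i : LocIx N),
      ((s.ι.app i).hom : Localization.Away i.val →+* s.pt).comp (algebraMap P (Localization.Away i.val)) =
        ((s.ι.app one).hom : Localization.Away one.val →+* s.pt).comp (algebraMap P (Localization.Away one.val)) := by
    intro s i
    have h : one ≤ i := one_dvd i.val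
    rw [← s.w (homOfLE h)]
    show _ = ((s.ι.app i).hom.comp (locTrans N h)).comp (algebraMap P (Localization.Away one.val))
    exact RingHom.ext fun x => (congrArg (s.ι.app i).hom (RingHom.congr_fun (locTrans_comp N h) x)).symm
  refine
    { desc := fun s => CommRingCat.ofHom (IsLocalization.lift (S := L) (M := N)
        (g := ((s.ι.app one).hom : Localization.Away one.val →+* s.pt).comp (algebraMap P (Localization.Away one.val))) fun y => ?_)
      fac := fun s i => CommRingCat.hom_ext (locHom_ext N ?_)
      uniq := fun s m hm => CommRingCat.hom_ext (IsLocalization.ringHom_ext (R := P) (S := L) N ?_) }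
  · rw [← key s ⟨y.1, y.2⟩]
    exact (IsLocalization.Away.algebraMap_isUnit (S := Localization.Away (y.1 : P)) (y.1 : P)).map (s.ι.app ⟨y.1, y.2⟩).hom
  · show ((IsLocalization.lift _).comp (locMap N L i)).comp (algebraMap P _) = _
    rw [RingHom.comp_assoc, locMap_comp, IsLocalization.lift_comp]
    exact (key s i).symm
  · show (m.hom : L →+* s.pt).comp (algebraMap P L) = (IsLocalization.lift _).comp (algebraMap P L)
    rw [IsLocalization.lift_comp, ← hm one]
    exact RingHom.ext fun x => (congrArg m.hom (RingHom.congr_fun (locMap_comp N L one) x)).symm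

theorem exists_away_factor {X : Scheme.{u}} {q : X ⟶ Spec (CommRingCat.of P)}
    [LocallyOfFinitePresentation q] (s : Spec (CommRingCat.of L) ⟶ X)
    (hs : s ≫ q = Spec.map (CommRingCat.ofHom (algebraMap P L))) :
    ∃ n ∈ N, ∃ g : Spec (CommRingCat.of (Localization.Away n)) ⟶ X,
      g ≫ q = Spec.map (CommRingCat.ofHom (algebraMap P (Localization.Away n))) := by
  let D : (LocIx N)ᵒᵖ ⥤ Scheme.{u} := (locFunctor N).op ⋙ Scheme.Spec
  let t : D ⟶ (Functor.const _).obj (Spec (CommRingCat.of P)) :=
    { app := fun i => Spec.map (CommRingCat.ofHom (algebraMap P (Localization.Away i.unop.val)))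
      naturality := fun i j φ => by
        show Spec.map (CommRingCat.ofHom (locTrans N (leOfHom φ.unop))) ≫ Spec.map _ = Spec.map _ ≫ 𝟙 _
        rw [← Spec.map_comp, Category.comp_id, ← CommRingCat.ofHom_comp, locTrans_comp] }
  haveI : ∀ {i j} (φ : i ⟶ j), IsAffineHom (D.map φ) := fun {i j} φ =>
    inferInstanceAs (IsAffineHom (Spec.map ((locFunctor N).map φ.unop)))
  haveI : ∀ i, CompactSpace (D.obj i) := fun i =>
    inferInstanceAs (CompactSpace (Spec (CommRingCat.of (Localization.Away i.unop.val))))
  haveI : ∀ i, QuasiSeparatedSpace (D.obj i) := fun i =>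
    inferInstanceAs (QuasiSeparatedSpace (Spec (CommRingCat.of (Localization.Away i.unop.val))))
  obtain ⟨i, g, -, hg⟩ := Scheme.exists_π_app_comp_eq_of_locallyOfFinitePresentation D t q
    (Scheme.Spec.mapCone (locCocone N L).op)
    (isLimitOfPreserves Scheme.Spec (locCoconeIsColimit N L).op) s (by
      ext i
      show Spec.map (CommRingCat.ofHom (locMap N L i.unop)) ≫ Spec.map _ = s ≫ q
      rw [← Spec.map_comp, hs, ← CommRingCat.ofHom_comp, locMap_comp])
  exact ⟨i.unop.val, i.unop.mem, g, hg⟩

end Groth.LoopPatch
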