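import Mathlib
import Groth.Agent.LoopPatch.DescGlobal
import Groth.Agent.LoopPatch.SpreadLoc
import Groth.Agent.NeronArea.MappingDescent

/-!
Torsors on the affine line with sections over all localisations of the base are constant.
-/

set_option autoImplicit false
set_option backward.isDefEq.respectTransparency false

universe u

open CategoryTheory CategoryTheory.Limits MonoidalCategory CartesianMonoidalCategory MonObj GrpObj
open AlgebraicGeometry
open scoped TensorProduct
open Groth.SpecFerrand (Sp Sp_comp)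
open Groth.TorsProper Groth.TorsProper.PushPts

noncomputable section

namespace Groth.LoopPatch.Patch

attribute [local instance 10000] CategoryTheory.Hom.group
set_option synthInstance.maxHeartbeats 400000

variable {R : Type u} [CommRing R] {S : Scheme.{u}} (σ : S ≅ Spec (CommRingCat.of R)) {G : Over S}
  [GrpObj G] {A : Scheme.{u}} {f : A ⟶ S} {X : Over A}
  {a : AlgGrp.Action (Red.bc f G) X} {C₀ : Type u} [CommRing C₀] [Algebra R C₀]
  {ε : ptS σ C₀ ≅ Over.mk f} {z : C₀ →ₐ[R] R} {D : Type u} [CommRing D] [Algebra R D]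
  (E : Datum σ G a ε z (D := D))

/-- A section gives a constant form. -/
theorem Datum.desc_of_section (ha : NonAbH1.IsPseudoTorsorSch a) {C : Type u} [CommRing C] [Algebra R C]
    {c₀ : C₀ →ₐ[R] C} (π : C →ₐ[R] C) (hπ : π.comp c₀ = (Algebra.ofId R C).comp z)
    (s : ptS σ C ⟶ (Over.map f).obj X) (hs : s ≫ pr f X = av σ ε c₀) : E.Desc σ c₀ := by
  let iR : C →ₐ[R] D ⊗[R] C := Algebra.TensorProduct.includeRight
  let v : ptS σ (D ⊗[R] C) ⟶ (Over.map f).obj X := ptSMap σ iR ≫ s
  let v₀ : ptS σ (D ⊗[R] C) ⟶ (Over.map f).obj X := ptSMap σ iR ≫ ptSMap σ π ≫ s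
  have hx := E.good_const σ C
  have hv₀ : v₀ ≫ pr f X = av σ ε (iR.comp ((Algebra.ofId R C).comp z)) := by
    rw [Category.assoc, Category.assoc, hs, ptSMap_av, ptSMap_av, hπ]
  obtain ⟨g, hg⟩ := exists_smul_eq ha (hv₀.trans hx.proj.symm)
  have hq : ∀ w : ptS σ C ⟶ (Over.map f).obj X, ptSMap σ (q₁ C) ≫ ptSMap σ iR ≫ w =
      ptSMap σ (q₂ (R := R) (D := D) C) ≫ ptSMap σ iR ≫ w := by
    intro w
    rw [ptSMap_comp_assoc, ptSMap_comp_assoc]
    exact congrArg (fun φ => ptSMap σ φ ≫ w) (AlgHom.ext fun c => by simp [iR])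
  have hmem : E.hC σ C * (ptSMap σ (q₁ C) ≫ g) = ptSMap σ (q₂ C) ≫ g := by
    have h := hx.coc
    rw [← hg, smul_nat, smul_nat, hq (ptSMap σ π ≫ s), ← smul_mul] at h
    exact smul_cancel ha h
  refine ⟨PushPts.smul a g v, ?_, ?_⟩
  · rw [smul_pr, Category.assoc, hs, ptSMap_av]
  · rw [smul_nat, smul_nat, hq s, ← smul_mul, hmem]

/-- A section at the base point is a datum over the base itself. -/
def Datum.ofPoint (x : ptS σ R ⟶ (Over.map f).obj X) (hx : x ≫ pr f X = av σ ε ((Algebra.ofId R R).comp z)) :
    Datum σ G a ε z (D := R) where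
  x₀ := x
  hx₀ := hx
  h := 1
  hh := by
    rw [PushPts.smul_one]
    exact congrArg (fun φ => ptSMap σ φ ≫ x) (Subsingleton.elim _ _)

/-- A constant form over the base point is a section. -/
theorem Datum.exists_point (E : Datum σ G a ε z (D := R)) {C : Type u} [CommRing C] [Algebra R C]
    {c₀ : C₀ →ₐ[R] C} (h : E.Desc σ c₀) :
    ∃ s : ptS σ C ⟶ (Over.map f).obj X, s ≫ pr f X = av σ ε c₀ := by
  obtain ⟨y, hy⟩ := h
  refine ⟨ptSMap σ (Algebra.TensorProduct.lid R C).toAlgHom ≫ y, ?_⟩
  rw [Category.assoc, hy.proj, ptSMap_av]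
  exact congrArg (av σ ε) (AlgHom.ext fun c => by simp)

variable [LocallyOfFinitePresentation G.hom]

/-- The ideal over which the torsor descends, for any base point. -/
def Datum.descIdealOf (ha : NonAbH1.IsPseudoTorsorSch a) (sc : C₀ →ₐ[R] Polynomial C₀)
    (hsc₀ : (ev0 R C₀).comp sc = (Algebra.ofId R C₀).comp z) (hsc₁ : ∀ c, (sc c).eval 1 = c) : Ideal R where
  carrier := {r | E.DescAway σ r}
  zero_mem' := E.descAway_zero σ
  add_mem' {r s} hr hs :=
    E.descAway_of_mem_span σ ha sc hsc₀ hsc₁
      (add_mem (Ideal.subset_span (Set.mem_insert r {s}))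
        (Ideal.subset_span (Set.mem_insert_of_mem r rfl))) hr hs
  smul_mem' c _ hr := hr.mul σ E c

section Line

/-- The base point. -/
abbrev linePt (c : R) : Polynomial R →ₐ[R] R := Polynomial.aeval c

/-- Scaling about the base point. -/
def lineScale (c : R) : Polynomial R →ₐ[R] Polynomial (Polynomial R) :=
  Polynomial.aeval (Polynomial.C (Polynomial.C c) +
    (Polynomial.C Polynomial.X - Polynomial.C (Polynomial.C c)) * Polynomial.X)

theorem ev0_lineScale (c : R) :
    (ev0 R (Polynomial R)).comp (lineScale c) = (Algebra.ofId R (Polynomial R)).comp (linePt c) :=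
  Polynomial.algHom_ext (by simp [lineScale, linePt])

theorem eval_one_lineScale (c : R) (p : Polynomial R) : (lineScale c p).eval 1 = p := by
  have : ((Polynomial.aeval (1 : Polynomial R)).restrictScalars R).comp (lineScale c) =
      AlgHom.id R (Polynomial R) :=
    Polynomial.algHom_ext (by simp [lineScale])
  rw [← Polynomial.coe_aeval_eq_eval]
  exact AlgHom.congr_fun this p

attribute [local instance] Polynomial.algebra

variable {εl : ptS σ (Polynomial R) ≅ Over.mk f} {c : R} (El : Datum σ G a εl (linePt c) (D := D))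

/-- Sections over all localisations make the torsor constant. -/
theorem Datum.desc_id_of_localizations (hX : NonAbH1.IsTorsorFor Scheme.fppfPrecoverage a)
    (hm : ∀ (m : Ideal R) [m.IsMaximal],
      ∃ s : Spec (CommRingCat.of (Polynomial (Localization.AtPrime m))) ⟶ X.left,
        s ≫ X.hom = Sp (Polynomial.mapRingHom (algebraMap R (Localization.AtPrime m))) ≫ εl.hom.left) :
    El.Desc σ (AlgHom.id R (Polynomial R)) := by
  haveI : IsIso εl.hom.left := inferInstanceAs (IsIso ((Over.forget S).map εl.hom))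
  haveI : LocallyOfFinitePresentation (Red.bc f G).hom :=
    inferInstanceAs (LocallyOfFinitePresentation (pullback.snd G.hom f))
  haveI : LocallyOfFinitePresentation X.hom :=
    Groth.NeronArea.property_of_isLocallyTrivial a hX.1 @LocallyOfFinitePresentation hX.2 inferInstance
  let J := El.descIdealOf σ hX.1 (lineScale c) (ev0_lineScale c) (eval_one_lineScale c)
  have hJ : J = ⊤ := by
    by_contra hJ
    obtain ⟨m, hmax, hle⟩ := Ideal.exists_le_maximal _ hJ
    obtain ⟨s, hs⟩ := hm m
    let N : Submonoid (Polynomial R) := Submonoid.map (algebraMap R (Polynomial R)) m.primeCompl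
    haveI : IsLocalization N (Polynomial (Localization.AtPrime m)) :=
      Polynomial.isLocalization m.primeCompl _
    obtain ⟨_, ⟨r, hr, rfl⟩, g, hg⟩ := exists_away_factor N (Polynomial (Localization.AtPrime m))
      (q := X.hom ≫ inv εl.hom.left) s (by
        rw [← Category.assoc, hs, Category.assoc, IsIso.hom_inv_id, Category.comp_id]
        rfl)
    let L := Localization.Away (algebraMap R (Polynomial R) r)
    let c₀ : Polynomial R →ₐ[R] L := IsScalarTower.toAlgHom R (Polynomial R) L
    have hg' : g ≫ X.hom = (av σ εl c₀).left := by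
      rw [← cancel_mono (inv εl.hom.left), Category.assoc, hg]
      show _ = (Sp c₀.toRingHom ≫ εl.hom.left) ≫ inv εl.hom.left
      rw [Category.assoc, IsIso.hom_inv_id, Category.comp_id]
      rfl
    let s' : ptS σ L ⟶ (Over.map f).obj X := Over.homMk g (by
      show g ≫ X.hom ≫ f = _
      rw [← Category.assoc, hg']
      exact Over.w (av σ εl c₀))
    obtain ⟨ρ, jn, hρc, -⟩ := exists_retr (linePt c) r (C := L) (L := Localization.Away r)
    refine hr (hle ?_)
    refine El.desc_of_section σ hX.1 (jn.comp ρ) ?_ s' (Over.OverMorphism.ext hg')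
    rw [AlgHom.comp_assoc, hρc, ← AlgHom.comp_assoc]
    exact congrArg (fun φ => AlgHom.comp φ (linePt c)) (Subsingleton.elim _ _)
  exact (show El.DescAway σ 1 from (Ideal.eq_top_iff_one _).1 hJ).desc σ El _
    (by rw [map_one]; exact isUnit_one)

end Line

end Groth.LoopPatch.Patch
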