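import Mathlib
import Groth.Agent.LoopPatch.LineDesc
import Groth.Agent.LoopPatch.GlueTrivial

/-!
Gluing in a torsor at infinity: a torsor constant on the affine line and trivial away from a finite
subscheme is trivial, once this is known over the local rings of the base.
-/

set_option autoImplicit false
set_option backward.isDefEq.respectTransparency false

universe u

open CategoryTheory CategoryTheory.Limits MonoidalCategory CartesianMonoidalCategory MonObj GrpObj
open AlgebraicGeometry
open Groth.SpecFerrand (Sp Sp_comp)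
open Groth.TorsProper Groth.TorsProper.PushPts

noncomputable section

attribute [local instance 10000] CategoryTheory.Hom.group
set_option synthInstance.maxHeartbeats 400000

namespace Groth.LoopPatch.Line

open Polynomial

variable {R : Type u} [CommRing R]

/-- The open complement of a closed subscheme. -/
abbrev complOpen {P : Type u} [CommRing P] (I : Ideal P) : (Spec (CommRingCat.of P)).Opens :=
  ⟨(PrimeSpectrum.zeroLocus (I : Set P))ᶜ, (PrimeSpectrum.isClosed_zeroLocus _).isOpen_compl⟩

theorem exists_monic_mem (I : Ideal R[X]) [Module.Finite R (R[X] ⧸ I)] : ∃ p : R[X], p.Monic ∧ p ∈ I := by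
  obtain ⟨p, hp, hp0⟩ := IsIntegral.of_finite R (Ideal.Quotient.mkₐ R I X)
  refine ⟨p, hp, Ideal.Quotient.eq_zero_iff_mem.1 ?_⟩
  have : aeval (Ideal.Quotient.mkₐ R I X) p = 0 := hp0
  rwa [aeval_algHom_apply, aeval_X_left_apply] at this

theorem finite_quotient_span {p : R[X]} (hp : p.Monic) :
    Module.Finite R (R[X] ⧸ Ideal.span ({p} : Set R[X])) := by
  haveI : Module.Finite R (AdjoinRoot p) := (AdjoinRoot.powerBasis' hp).finite
  exact this

variable (G : Over (Spec (CommRingCat.of R))) [GrpObj G]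

/-- The structure map of the affine line. -/
abbrev str (R : Type u) [CommRing R] : Spec (CommRingCat.of R[X]) ⟶ Spec (CommRingCat.of R) :=
  Spec.map (CommRingCat.ofHom (algebraMap R R[X]))

/-- The local hypothesis. -/
def LocTrivial : Prop :=
  ∀ (m : Ideal R) [m.IsMaximal]
    (Y : NonAbH1.TorsorSch (Red.bc (Spec.map (CommRingCat.ofHom (algebraMap (Localization.AtPrime m)
      (Polynomial (Localization.AtPrime m))))) (Red.bc (Spec.map (CommRingCat.ofHom
        (algebraMap R (Localization.AtPrime m)))) G)) Scheme.fppfPrecoverage),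
    (∃ I : Ideal (Polynomial (Localization.AtPrime m)),
      Module.Finite (Localization.AtPrime m) (Polynomial (Localization.AtPrime m) ⧸ I) ∧
      NonAbH1.HasSectionOver Y.X (Scheme.Opens.ι (complOpen I))) →
    NonAbH1.HasSectionOver Y.X (𝟙 (Spec (CommRingCat.of (Polynomial (Localization.AtPrime m)))))

variable {G}

/-- Using the hypothesis for the restriction of a torsor over the line. -/
theorem exists_section_localization (hloc : LocTrivial G)
    (T : NonAbH1.TorsorSch (Red.bc (str R) G) Scheme.fppfPrecoverage) (p : R[X]) (hp : p.Monic)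
    {O : (Spec (CommRingCat.of R[X])).Opens} (hO : PrimeSpectrum.basicOpen p ≤ O)
    (hT : NonAbH1.HasSectionOver T.X O.ι) (m : Ideal R) [m.IsMaximal] :
    ∃ s : Spec (CommRingCat.of (Polynomial (Localization.AtPrime m))) ⟶ T.X.left,
      s ≫ T.X.hom = Sp (mapRingHom (algebraMap R (Localization.AtPrime m))) := by
  let Rm := Localization.AtPrime m
  let j : Spec (CommRingCat.of Rm) ⟶ Spec (CommRingCat.of R) :=
    Spec.map (CommRingCat.ofHom (algebraMap R Rm))
  let l : Spec (CommRingCat.of Rm[X]) ⟶ Spec (CommRingCat.of Rm) :=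
    Spec.map (CommRingCat.ofHom (algebraMap Rm Rm[X]))
  let k : Spec (CommRingCat.of Rm[X]) ⟶ Spec (CommRingCat.of R[X]) := Sp (mapRingHom (algebraMap R Rm))
  have hk : k ≫ str R = l ≫ j := by
    show Spec.map _ ≫ Spec.map _ = Spec.map _ ≫ Spec.map _
    rw [← Spec.map_comp, ← Spec.map_comp]
    congr 1
    exact CommRingCat.hom_ext (RingHom.ext fun x => Polynomial.map_C (algebraMap R Rm))
  let φ := (ActBC.bcCompIso l j G rfl).hom ≫ (ActBC.bcCompIso k (str R) G hk).inv
  let Y : NonAbH1.TorsorSch (Red.bc l (Red.bc j G)) Scheme.fppfPrecoverage :=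
    ⟨_, (T.act.bc k).restrict φ,
      isTorsorFor_restrict φ (NonAbH1.isTorsorFor_bc k Scheme.fppfPrecoverage T.isTorsor)⟩
  let q : Rm[X] := p.map (algebraMap R Rm)
  let I : Ideal Rm[X] := Ideal.span {q}
  have hI : Set.range ((complOpen I).ι ≫ k) ⊆ Set.range O.ι := by
    rintro _ ⟨x, rfl⟩
    rw [Scheme.Opens.range_ι]
    refine hO ?_
    intro hpx
    refine (x.2 : _) ?_
    show ((I : Ideal Rm[X]) : Set Rm[X]) ⊆ _
    exact Ideal.span_le.2 (Set.singleton_subset_iff.2 hpx)
  obtain ⟨t, ht⟩ := hT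
  obtain ⟨s, hs⟩ := hloc m Y ⟨I, finite_quotient_span (hp.map _),
    pullback.lift (IsOpenImmersion.lift O.ι ((complOpen I).ι ≫ k) hI ≫ t) (complOpen I).ι
      (by rw [Category.assoc, ht, IsOpenImmersion.lift_fac]), pullback.lift_snd _ _ _⟩
  refine ⟨s ≫ pullback.fst T.X.hom k, ?_⟩
  rw [Category.assoc, pullback.condition, ← Category.assoc]
  exact (congrArg (· ≫ k) hs).trans (Category.id_comp k)

variable [LocallyOfFinitePresentation G.hom]

/-- The base, as affine. -/
abbrev σ₀ (R : Type u) [CommRing R] : Spec (CommRingCat.of R) ≅ Spec (CommRingCat.of R) := Iso.refl _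

/-- The affine line as the spectrum of the polynomial ring. -/
def lineIso : Patch.ptS (σ₀ R) R[X] ≅ Over.mk (str R) :=
  Over.isoMk (Iso.refl _) ((Category.id_comp _).trans (Category.comp_id _).symm)

theorem lineIso_hom_left : (lineIso (R := R)).hom.left = 𝟙 _ := rfl

/-- A torsor over the line, trivial away from a finite subscheme, comes from the base. -/
theorem exists_descended (hloc : LocTrivial G)
    (T : NonAbH1.TorsorSch (Red.bc (str R) G) Scheme.fppfPrecoverage) (p : R[X]) (hp : p.Monic)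
    {O : (Spec (CommRingCat.of R[X])).Opens} (hO : PrimeSpectrum.basicOpen p ≤ O)
    (hT : NonAbH1.HasSectionOver T.X O.ι) :
    ∃ P : NonAbH1.TorsorSch G Scheme.fppfPrecoverage,
      Nonempty (NonAbH1.EquivIso (P.act.bc (str R)) T.act) := by
  obtain ⟨D, _, _, _, _, ⟨E⟩⟩ := Patch.exists_datum (σ₀ R) T lineIso (Patch.linePt (0 : R))
  refine E.exists_torsor_global (σ₀ R) T.isTorsor (E.desc_id_of_localizations (σ₀ R) T.isTorsor fun m _ => ?_)
  obtain ⟨s, hs⟩ := exists_section_localization hloc T p hp hO hT m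
  exact ⟨s, hs.trans (Category.comp_id _).symm⟩

/-- A torsor over the line with a point at `1`, trivial away from a finite subscheme, is trivial. -/
theorem exists_section_of_point (hloc : LocTrivial G)
    (T : NonAbH1.TorsorSch (Red.bc (str R) G) Scheme.fppfPrecoverage) (p : R[X]) (hp : p.Monic)
    {O : (Spec (CommRingCat.of R[X])).Opens} (hO : PrimeSpectrum.basicOpen p ≤ O)
    (hT : NonAbH1.HasSectionOver T.X O.ι) (x : Spec (CommRingCat.of R) ⟶ T.X.left)
    (hx : x ≫ T.X.hom = Sp (aeval (1 : R) : R[X] →ₐ[R] R).toRingHom) :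
    NonAbH1.HasSectionOver T.X (𝟙 (Spec (CommRingCat.of R[X]))) := by
  have hav : (Patch.av (σ₀ R) lineIso ((Algebra.ofId R R).comp (Patch.linePt (1 : R)))).left =
      Sp (aeval (1 : R) : R[X] →ₐ[R] R).toRingHom := by
    show Sp _ ≫ 𝟙 _ = _
    rw [Category.comp_id]
    rfl
  let x' : Patch.ptS (σ₀ R) R ⟶ (Over.map (str R)).obj T.X := Over.homMk x (by
    show x ≫ T.X.hom ≫ str R = _
    rw [← Category.assoc, hx, ← hav]
    exact Over.w (Patch.av (σ₀ R) lineIso ((Algebra.ofId R R).comp (Patch.linePt (1 : R)))))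
  let E := Patch.Datum.ofPoint (σ₀ R) (a := T.act) (ε := lineIso) x' (Over.OverMorphism.ext (hx.trans hav.symm))
  haveI : Surjective (Spec.map (CommRingCat.ofHom (algebraMap R R))) := by
    rw [Algebra.algebraMap_self, CommRingCat.ofHom_id, Spec.map_id]; infer_instance
  obtain ⟨s, hs⟩ := E.exists_point (σ₀ R) (E.desc_id_of_localizations (σ₀ R) T.isTorsor fun m _ => by
    obtain ⟨s, hs⟩ := exists_section_localization hloc T p hp hO hT m
    exact ⟨s, hs.trans (Category.comp_id _).symm⟩)
  refine ⟨s.left, (congrArg CommaMorphism.left hs).trans ?_⟩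
  show Sp (RingHom.id R[X]) ≫ 𝟙 _ = _
  rw [Category.comp_id]
  exact Spec.map_id _

/-- The reversed polynomial inverts the polynomial in `1/X`. -/
theorem exists_atInfinity (p : R[X]) :
    Nonempty (Localization.Away p →ₐ[R] Localization.Away (p.reverse * X)) := by
  let L := Localization.Away (p.reverse * X)
  have hu := IsLocalization.Away.algebraMap_isUnit (S := L) (p.reverse * X)
  rw [map_mul] at hu
  have hX : IsUnit (algebraMap R[X] L X) := isUnit_of_mul_isUnit_right hu
  have hg : IsUnit (algebraMap R[X] L p.reverse) := isUnit_of_mul_isUnit_left hu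
  let y : L := ↑hX.unit⁻¹
  letI : Invertible y := ⟨algebraMap R[X] L X, hX.mul_val_inv, hX.val_inv_mul⟩
  have h := eval₂_reverse_mul_pow (algebraMap R L) y p
  have e : eval₂ (algebraMap R L) (algebraMap R[X] L X) p.reverse = algebraMap R[X] L p.reverse := by
    have : (aeval (algebraMap R[X] L X) : R[X] →ₐ[R] L) = IsScalarTower.toAlgHom R R[X] L :=
      algHom_ext (by simp)
    exact AlgHom.congr_fun this p.reverse
  have hp : IsUnit (aeval y p : L) := by
    show IsUnit (eval₂ (algebraMap R L) y p)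
    rw [← h]
    refine IsUnit.mul ?_ (hX.unit⁻¹.isUnit.pow _)
    show IsUnit (eval₂ (algebraMap R L) (algebraMap R[X] L X) p.reverse)
    rw [e]; exact hg
  refine ⟨IsLocalization.liftAlgHom (M := Submonoid.powers p) (f := (aeval y : R[X] →ₐ[R] L)) ?_⟩
  rintro ⟨_, n, rfl⟩
  rw [map_pow]
  exact hp.pow n

/-- A torsor over the base with a point over the complement of a monic polynomial is trivial. -/
theorem hasSection_of_point_away (hloc : LocTrivial G) (P : NonAbH1.TorsorSch G Scheme.fppfPrecoverage)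
    (p : R[X]) (hp : p.Monic) (t : Spec (CommRingCat.of (Localization.Away p)) ⟶ P.X.left)
    (ht : t ≫ P.X.hom = Sp (algebraMap R (Localization.Away p))) :
    NonAbH1.HasSectionOver P.X (𝟙 (Spec (CommRingCat.of R))) := by
  let g := p.reverse
  have hg0 : g.eval 0 = 1 := by
    rw [← coeff_zero_eq_eval_zero]
    exact (coeff_zero_reverse p).trans hp
  let B := Spec (CommRingCat.of R[X])
  let L₀ := Localization.Away g
  let L₁ := Localization.Away (X : R[X])
  let L₀₁ := Localization.Away (g * X)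
  let V₀ : Over B := Over.mk (Sp (algebraMap R[X] L₀))
  let V₁ : Over B := Over.mk (Sp (algebraMap R[X] L₁))
  let V₀₁ : Over B := Over.mk (Sp (algebraMap R[X] L₀₁))
  haveI : IsOpenImmersion V₀.hom := IsOpenImmersion.of_isLocalization g
  haveI : IsOpenImmersion V₁.hom := IsOpenImmersion.of_isLocalization (X : R[X])
  haveI : IsOpenImmersion V₀₁.hom := IsOpenImmersion.of_isLocalization (g * X)
  have hrange : ∀ (q : R[X]) (b : B), b ∈ Set.range (Sp (algebraMap R[X] (Localization.Away q))) ↔
      q ∉ (b : PrimeSpectrum R[X]).asIdeal := by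
    intro q b
    show (b : PrimeSpectrum R[X]) ∈ Set.range (PrimeSpectrum.comap (algebraMap R[X] (Localization.Away q))) ↔ _
    rw [PrimeSpectrum.localization_away_comap_range (Localization.Away q) q]
    rfl
  have hgX : ∀ b : PrimeSpectrum R[X], g ∈ b.asIdeal → (X : R[X]) ∉ b.asIdeal := by
    intro b hb hX
    refine b.2.ne_top ((Ideal.eq_top_iff_one _).2 ?_)
    have e : X * g.divX + 1 = g := by
      have e' := X_mul_divX_add g
      rwa [coeff_zero_eq_eval_zero, hg0, map_one] at e'
    have h1 : g - X * g.divX ∈ b.asIdeal := sub_mem hb (Ideal.mul_mem_right _ _ hX)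
    rwa [sub_eq_of_eq_add' e.symm] at h1
  have hu := IsLocalization.Away.algebraMap_isUnit (S := L₀₁) (g * X)
  rw [map_mul] at hu
  let i₀ : V₀₁ ⟶ V₀ := Over.homMk (Sp (IsLocalization.Away.lift g (isUnit_of_mul_isUnit_left hu))) (by
    show Sp _ ≫ Sp _ = Sp _
    rw [Sp_comp, IsLocalization.Away.lift_comp])
  let i₁ : V₀₁ ⟶ V₁ := Over.homMk (Sp (IsLocalization.Away.lift (X : R[X]) (isUnit_of_mul_isUnit_right hu))) (by
    show Sp _ ≫ Sp _ = Sp _
    rw [Sp_comp, IsLocalization.Away.lift_comp])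
  obtain ⟨ψ⟩ := exists_atInfinity p
  let s : V₀₁ ⟶ Red.bc (str R) P.X :=
    Over.homMk (pullback.lift (Sp ψ.toRingHom ≫ t) V₀₁.hom (by
      show (Sp ψ.toRingHom ≫ t) ≫ P.X.hom = Sp (algebraMap R[X] L₀₁) ≫ Sp (algebraMap R R[X])
      rw [Category.assoc, ht, Sp_comp, Sp_comp, ← IsScalarTower.algebraMap_eq]
      exact congrArg Sp (RingHom.ext fun x => ψ.commutes x))) (pullback.lift_snd _ _ _)
  obtain ⟨Y, b, hb, ⟨y₁⟩, hY⟩ := exists_glue_trivial (P.act.bc (str R))
    (NonAbH1.isTorsorFor_bc (str R) Scheme.fppfPrecoverage P.isTorsor) i₀ i₁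
    (fun b => by
      by_cases hb : g ∈ (b : PrimeSpectrum R[X]).asIdeal
      · exact Or.inr ((hrange X b).2 (hgX _ hb))
      · exact Or.inl ((hrange g b).2 hb))
    (fun b h₀ h₁ => (hrange (g * X) b).2 fun h =>
      ((b : PrimeSpectrum R[X]).2.mem_or_mem h).elim ((hrange g b).1 h₀) ((hrange X b).1 h₁))
    s
  let O : B.Opens := PrimeSpectrum.basicOpen (X : R[X])
  have hO : Set.range O.ι ⊆ Set.range V₁.hom := by
    rw [Scheme.Opens.range_ι]
    exact fun b hb => (hrange X b).2 hb
  have hsec : NonAbH1.HasSectionOver Y O.ι :=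
    ⟨IsOpenImmersion.lift V₁.hom O.ι hO ≫ y₁.left, by
      rw [Category.assoc, Over.w y₁, IsOpenImmersion.lift_fac]⟩
  have hu1 : IsUnit ((aeval (1 : R) : R[X] →ₐ[R] R).toRingHom X) := by
    show IsUnit (aeval (1 : R) X)
    rw [aeval_X]; exact isUnit_one
  obtain ⟨sY, hsY⟩ := exists_section_of_point hloc ⟨Y, b, hb⟩ X monic_X (O := O) le_rfl hsec
    (Sp (IsLocalization.Away.lift (X : R[X]) hu1) ≫ y₁.left) (by
      rw [Category.assoc, Over.w y₁]
      show Sp _ ≫ Sp _ = _
      rw [Sp_comp, IsLocalization.Away.lift_comp])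
  let c : Spec (CommRingCat.of R) ⟶ B := Sp (aeval (0 : R) : R[X] →ₐ[R] R).toRingHom
  have hc : Set.range c ⊆ Set.range V₀.hom := by
    rintro _ ⟨x, rfl⟩
    refine (hrange g _).2 fun h => ?_
    have h' : (aeval (0 : R) g) ∈ (x : PrimeSpectrum R).asIdeal := h
    rw [coe_aeval_eq_eval, hg0] at h'
    exact (x : PrimeSpectrum R).2.ne_top ((Ideal.eq_top_iff_one _).2 h')
  obtain ⟨q⟩ := hY (Over.mk c) (Over.homMk (c ≫ sY) (by
    show (c ≫ sY) ≫ Y.hom = c
    rw [Category.assoc]
    exact (congrArg (c ≫ ·) hsY).trans (Category.comp_id c))) hc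
  refine ⟨q.left ≫ pullback.fst P.X.hom (str R), ?_⟩
  rw [Category.assoc, pullback.condition, ← Category.assoc]
  refine (congrArg (· ≫ str R) (Over.w q)).trans ?_
  show Sp _ ≫ Sp _ = 𝟙 _
  rw [Sp_comp, AlgHom.toRingHom_eq_coe, AlgHom.comp_algebraMap, Algebra.algebraMap_self]
  exact Spec.map_id _

/-- The theorem. -/
theorem hasSection (hloc : LocTrivial G)
    (T : NonAbH1.TorsorSch (Red.bc (str R) G) Scheme.fppfPrecoverage) (I : Ideal R[X])
    [Module.Finite R (R[X] ⧸ I)] (hT : NonAbH1.HasSectionOver T.X (Scheme.Opens.ι (complOpen I))) :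
    NonAbH1.HasSectionOver T.X (𝟙 (Spec (CommRingCat.of R[X]))) := by
  obtain ⟨p, hp, hpI⟩ := exists_monic_mem I
  have hO : PrimeSpectrum.basicOpen p ≤ complOpen I := fun b hb hbI => hb (hbI hpI)
  obtain ⟨P, ⟨e⟩⟩ := exists_descended hloc T p hp hO hT
  obtain ⟨t, ht⟩ := hT
  let v : Spec (CommRingCat.of (Localization.Away p)) ⟶ Spec (CommRingCat.of R[X]) :=
    Sp (algebraMap R[X] (Localization.Away p))
  haveI : IsOpenImmersion v := IsOpenImmersion.of_isLocalization p
  have hv : Set.range v ⊆ Set.range (complOpen I).ι := by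
    rw [Scheme.Opens.range_ι]
    rintro _ ⟨x, rfl⟩
    refine hO ?_
    show PrimeSpectrum.comap (algebraMap R[X] (Localization.Away p)) x ∈ (PrimeSpectrum.basicOpen p : Set _)
    rw [← PrimeSpectrum.localization_away_comap_range (Localization.Away p) p]
    exact Set.mem_range_self x
  obtain ⟨y, hy⟩ := hasSection_of_point_away hloc P p hp
    ((IsOpenImmersion.lift _ v hv ≫ t) ≫ e.iso.inv.left ≫ pullback.fst P.X.hom (str R)) (by
      simp only [Category.assoc]
      rw [pullback.condition, ← Category.assoc e.iso.inv.left]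
      refine (congrArg (fun w => IsOpenImmersion.lift _ v hv ≫ t ≫ w ≫ str R) (Over.w e.iso.inv)).trans ?_
      rw [← Category.assoc t, ht, ← Category.assoc, IsOpenImmersion.lift_fac]
      show Sp _ ≫ Sp _ = _
      rw [Sp_comp, ← IsScalarTower.algebraMap_eq])
  let w : Spec (CommRingCat.of R[X]) ⟶ (Red.bc (str R) P.X).left :=
    pullback.lift (str R ≫ y) (𝟙 _) (by rw [Category.assoc, hy, Category.comp_id, Category.id_comp])
  refine ⟨w ≫ e.iso.hom.left, ?_⟩
  rw [Category.assoc, Over.w e.iso.hom]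
  exact pullback.lift_snd _ _ _

end Groth.LoopPatch.Line
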